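import Cfsg.Agent.Lib.DGroup.II.Roots
import Cfsg.Agent.Lib.PGroups.UniqueOrderP
import Cfsg.Agent.Lib.Coprime.Action2
import Cfsg.Agent.Lib.Base.Cores
import Cfsg.Agent.Lib.Base.MinimalNormal

/-!
# Cyclic Sylow 2-intersections
-/

set_option autoImplicit false
set_option linter.unusedSectionVars false
set_option linter.style.haveILetI false

namespace CfsgLib.CycInt

open Subgroup CfsgLib.Involutions CfsgLib.DGroup CfsgLib.DGroup.II

universe u

variable {G : Type u} [Group G]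

/-- Distinct Sylow 2-subgroups meet in cyclic groups. -/
def CI (G : Type u) [Group G] : Prop :=
  ∀ S T : Sylow 2 G, S ≠ T → IsCyclic ↥((S : Subgroup G) ⊓ (T : Subgroup G))

/-- All Sylow 2-subgroups containing `x` coincide. -/
def Uniq (x : G) : Prop := ∀ S T : Sylow 2 G, x ∈ (S : Subgroup G) → x ∈ (T : Subgroup G) → S = T

theorem cyclic_mem [Finite G] {R : Subgroup G} (hR : IsCyclic R) {a b : G} (ha : a ∈ R)
    (hb : b ∈ R) (h : orderOf a ∣ orderOf b) : a ∈ zpowers b := by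
  classical
  haveI := hR
  haveI : Fintype R := Fintype.ofFinite R
  set n := orderOf b with hn
  set s : Finset R := Finset.univ.filter fun x => x ^ n = 1 with hs
  have hle : s.card ≤ n := IsCyclic.card_pow_eq_one_le (orderOf_pos b)
  have hbn : (⟨b, hb⟩ : R) ^ n = 1 := Subtype.ext (by simp [hn, pow_orderOf_eq_one])
  let P : Finset R := (Finset.range n).image fun i => (⟨b, hb⟩ : R) ^ i
  have hP : P.card = n := by
    rw [Finset.card_image_of_injOn, Finset.card_range]
    intro i hi j hj e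
    refine pow_injOn_Iio_orderOf (x := (⟨b, hb⟩ : R)) ?_ ?_ e
    · simpa [Subgroup.orderOf_mk, ← hn] using Finset.mem_range.1 hi
    · simpa [Subgroup.orderOf_mk, ← hn] using Finset.mem_range.1 hj
  have hPs : P ⊆ s := by
    intro x hx
    obtain ⟨i, -, rfl⟩ := Finset.mem_image.1 hx
    simp only [hs, Finset.mem_filter, Finset.mem_univ, true_and]
    rw [← pow_mul, mul_comm i n, pow_mul, hbn, one_pow]
  have hmem : (⟨a, ha⟩ : R) ∈ P := by
    rw [Finset.eq_of_subset_of_card_le hPs (by omega)]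
    simp only [hs, Finset.mem_filter, Finset.mem_univ, true_and]
    exact Subtype.ext (by simpa using orderOf_dvd_iff_pow_eq_one.1 h)
  obtain ⟨i, -, hi⟩ := Finset.mem_image.1 hmem
  have := congrArg Subtype.val hi
  simp only [SubmonoidClass.coe_pow] at this
  exact this ▸ pow_mem (mem_zpowers b) i

theorem cyclic_invol [Finite G] {R : Subgroup G} (hR : IsCyclic R) {a b : G} (ha : a ∈ R)
    (hb : b ∈ R) (hao : orderOf a = 2) (hbo : orderOf b = 2) : a = b := by
  rcases mem_two (invol_mul_self hbo) (cyclic_mem hR ha hb (by rw [hao, hbo])) with e | e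
  · exact absurd e (invol_ne_one hao)
  · exact e

theorem cyclic_comm {R : Subgroup G} (hR : IsCyclic R) {a b : G} (ha : a ∈ R)
    (hb : b ∈ R) : Commute a b := by
  haveI := hR
  obtain ⟨r, hr⟩ := IsCyclic.exists_generator (α := R)
  obtain ⟨i, hi⟩ := mem_zpowers_iff.1 (hr ⟨a, ha⟩)
  obtain ⟨j, hj⟩ := mem_zpowers_iff.1 (hr ⟨b, hb⟩)
  have := congrArg Subtype.val ((Commute.refl r).zpow_zpow i j).eq
  rw [hi, hj] at this
  exact this

theorem isPGroup_zpowers {x : G} (hx : ∃ k : ℕ, orderOf x = 2 ^ k) : IsPGroup 2 (zpowers x) := by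
  obtain ⟨k, hk⟩ := hx
  exact IsPGroup.of_card (n := k) (by rw [Nat.card_zpowers, hk])

theorem two_pow_of_invol {x : G} (hx : orderOf x = 2) : ∃ k : ℕ, orderOf x = 2 ^ k :=
  ⟨1, by rw [hx, pow_one]⟩

theorem odd_commute_cyclic [Finite G] {d v : G} (hd : Odd (orderOf d))
    (hv : ∃ k : ℕ, orderOf v = 2 ^ k) (hn : (zpowers v).Normal) : Commute d v := by
  haveI := hn
  obtain ⟨k, hk⟩ := hv
  have h2 : orderOf (MulAut.conjNormal (H := zpowers v) d) ∣ Nat.totient (2 ^ k) := by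
    rw [← hk, ← Nat.card_zpowers v, ← IsCyclic.card_mulAut (zpowers v)]
    exact orderOf_dvd_natCard _
  have h1 : orderOf (MulAut.conjNormal (H := zpowers v) d) ∣ orderOf d := orderOf_map_dvd _ d
  have hone : MulAut.conjNormal (H := zpowers v) d = 1 := by
    rw [← orderOf_eq_one_iff, ← Nat.dvd_one]
    rcases k with _ | k
    · simpa using h2
    rw [Nat.totient_prime_pow_succ Nat.prime_two, show (2 : ℕ) - 1 = 1 from rfl, mul_one] at h2
    rw [← (Nat.Coprime.pow_left k hd.coprime_two_left).gcd_eq_one]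
    exact Nat.dvd_gcd h2 h1
  have h := congrArg (fun f : MulAut (zpowers v) => (f ⟨v, mem_zpowers v⟩ : G)) hone
  simp only [MulAut.conjNormal_apply, MulAut.one_apply] at h
  exact mul_inv_eq_iff_eq_mul.1 h

variable [Finite G]

/-- A counterexample. -/
structure Hyp (G : Type u) [Group G] (v z : G) : Prop where
  ns : ¬ Group.IsSolvable G
  ci : CI G
  core : Cfsg.oddCore G = ⊥
  two : ∃ k : ℕ, orderOf v = 2 ^ k
  normal : (zpowers v).Normal
  nc : v ∉ center G
  max : ∀ u : G, (∃ k : ℕ, orderOf u = 2 ^ k) → v ∈ zpowers u → (zpowers u).Normal → u ∈ zpowers v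
  zv : z ∈ zpowers v
  zo : orderOf z = 2

namespace Hyp

variable {v z : G} (h : Hyp G v z)
include h

theorem v_mem (S : Sylow 2 G) : v ∈ (S : Subgroup G) := by
  haveI := h.normal
  exact (Base.le_pCore (isPGroup_zpowers h.two)).trans (Base.pCore_le_sylow S) (mem_zpowers v)

theorem z_mem (S : Sylow 2 G) : z ∈ (S : Subgroup G) := (zpowers_le).2 (h.v_mem S) h.zv

theorem z_comm (x : G) : Commute x z := by
  refine mul_inv_eq_iff_eq_mul.1 ?_
  exact invol_unique (by rw [II.orderOf_conj_eq]; exact h.zo) h.zo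
    (h.normal.conj_mem z h.zv x) h.zv

theorem zz : z * z = 1 := invol_mul_self h.zo

theorem four_dvd : 4 ∣ orderOf v := by
  obtain ⟨k, hk⟩ := h.two
  rw [hk]
  by_contra hlt
  have hk1 : k ≤ 1 := by
    by_contra hk2
    exact hlt (pow_dvd_pow 2 (show 2 ≤ k by omega))
  refine h.nc (mem_center_iff.2 fun g => ?_)
  have hv2 : v * v = 1 := by
    rw [← sq]
    exact orderOf_dvd_iff_pow_eq_one.1 (hk ▸ pow_dvd_pow 2 hk1)
  rcases mem_two hv2 (h.normal.conj_mem v (mem_zpowers v) g) with e | e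
  · rw [conj_eq_one_iff] at e; rw [e, mul_one, one_mul]
  · exact mul_inv_eq_iff_eq_mul.1 e

theorem conj_comm {a : G} (ha : Commute a v) (g : G) : Commute (g * a * g⁻¹) v := by
  obtain ⟨i, hi⟩ := mem_zpowers_iff.1 (h.normal.conj_mem v (mem_zpowers v) g⁻¹)
  have h1 : Commute a (g⁻¹ * v * g⁻¹⁻¹) := hi ▸ ha.zpow_right i
  have h2 := Commute.map h1 (MulAut.conj g).toMonoidHom
  simpa [MulAut.conj_apply, mul_assoc] using h2

theorem uniq_of_noncomm {x : G} (hx : ¬ Commute x v) : Uniq x := fun S T hS hT => by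
  by_contra hne
  exact hx (cyclic_comm (h.ci S T hne) ⟨hS, hT⟩ ⟨h.v_mem S, h.v_mem T⟩)

theorem uniq_of_invol {x : G} (hx : orderOf x = 2) (hxz : x ≠ z) : Uniq x := fun S T hS hT => by
  by_contra hne
  exact hxz (cyclic_invol (h.ci S T hne) ⟨hS, hT⟩ ⟨h.z_mem S, h.z_mem T⟩ hx h.zo)

omit h in
theorem le_of_uniq {x : G} (hx : Uniq x) {S : Sylow 2 G} (hS : x ∈ (S : Subgroup G))
    {P : Subgroup G} (hP : IsPGroup 2 P) (hxP : x ∈ P) : P ≤ S := by
  obtain ⟨T, hT⟩ := hP.exists_le_sylow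
  rw [hx S T hS (hT hxP)]
  exact hT

omit h in
theorem mem_normalizer_of_uniq {x g : G} (hx : Uniq x) {S : Sylow 2 G}
    (hS : x ∈ (S : Subgroup G)) (hg : g * x * g⁻¹ ∈ (S : Subgroup G)) :
    g ∈ normalizer ((S : Subgroup G) : Set G) := by
  have hmem : x ∈ ((g⁻¹ • S : Sylow 2 G) : Subgroup G) := by
    rw [Sylow.coe_subgroup_smul]
    exact ⟨_, hg, by simp [mul_assoc]⟩
  have := hx _ _ hmem hS
  have h2 : g⁻¹ ∈ normalizer ((S : Subgroup G) : Set G) := Sylow.smul_eq_iff_mem_normalizer.1 this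
  simpa using inv_mem h2

theorem exists_ne (S : Sylow 2 G) : ∃ T : Sylow 2 G, T ≠ S := by
  by_contra hcon
  push Not at hcon
  haveI : Subsingleton (Sylow 2 G) := ⟨fun A B => (hcon A).trans (hcon B).symm⟩
  haveI : (S : Subgroup G).Normal := Sylow.normal_of_subsingleton S
  haveI : Fact (Nat.Prime 2) := ⟨Nat.prime_two⟩
  haveI := S.isPGroup'.isNilpotent
  exact h.ns (isSolvable_of_odd_index (S : Subgroup G) inferInstance
    (Nat.odd_iff.2 (Nat.two_dvd_ne_zero.1 S.not_dvd_index)))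

theorem exists_noncomm (S : Sylow 2 G) : ∃ g ∈ (S : Subgroup G), ¬ Commute g v := by
  by_contra hcon
  push Not at hcon
  refine h.nc (mem_center_iff.2 fun x => ?_)
  obtain ⟨k, m, hm, hkm⟩ := Nat.exists_eq_two_pow_mul_odd (orderOf_pos x).ne'
  have ha : Commute (x ^ 2 ^ k) v := by
    refine odd_commute_cyclic ?_ h.two h.normal
    rw [orderOf_pow_of_dvd (by positivity) (hkm ▸ dvd_mul_right _ _), hkm,
      Nat.mul_div_cancel_left _ (by positivity)]
    exact hm
  have hb : Commute (x ^ m) v := by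
    obtain ⟨g, hg⟩ := exists_conj_le S (isPGroup_zpowers (x := x ^ m) ⟨k, by
      rw [orderOf_pow_of_dvd hm.pos.ne' (hkm ▸ dvd_mul_left _ _), hkm,
        Nat.mul_div_cancel _ hm.pos]⟩)
    have := h.conj_comm (hcon _ (hg _ (mem_zpowers _))) g⁻¹
    rwa [show g⁻¹ * (g * x ^ m * g⁻¹) * g⁻¹⁻¹ = x ^ m by group] at this
  have hco : Nat.gcd (2 ^ k) m = 1 := Nat.Coprime.pow_left k hm.coprime_two_left
  have hB := Nat.gcd_eq_gcd_ab (2 ^ k) m
  rw [hco] at hB
  have hx' : x = (x ^ 2 ^ k) ^ (Nat.gcdA (2 ^ k) m) * (x ^ m) ^ (Nat.gcdB (2 ^ k) m) := by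
    rw [← zpow_natCast x (2 ^ k), ← zpow_natCast x m, ← zpow_mul, ← zpow_mul, ← zpow_add, ← hB,
      Nat.cast_one, zpow_one]
  have : Commute x v := hx' ▸ (ha.zpow_left _).mul_left (hb.zpow_left _)
  exact this.eq

end Hyp

end CfsgLib.CycInt
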