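import Cfsg.Agent.Lib.CycInt.Outer
import Cfsg.Agent.Lib.Coprime.Action2

/-!
# Cyclic Sylow 2-intersections: solvable normal subgroups
-/

set_option autoImplicit false
set_option linter.unusedSectionVars false
set_option linter.style.haveILetI false

namespace CfsgLib.CycInt

open Subgroup CfsgLib.Involutions CfsgLib.DGroup CfsgLib.DGroup.II Cfsg

universe u

variable {G : Type u} [Group G] [Finite G]

theorem card_map_of_two (O : Subgroup G) [O.Normal] (hO : Odd (Nat.card O)) {P : Subgroup G}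
    (hP : IsPGroup 2 P) : Nat.card (P.map (QuotientGroup.mk' O)) = Nat.card P := by
  haveI : Fact (Nat.Prime 2) := ⟨Nat.prime_two⟩
  refine Nat.card_image_of_injOn (f := QuotientGroup.mk' O) (s := (P : Set G)) fun a (ha : a ∈ P) b (hb : b ∈ P) e => ?_
  have h1 : a⁻¹ * b ∈ P ⊓ O := mem_inf.2 ⟨P.mul_mem (P.inv_mem ha) hb, by
    rw [QuotientGroup.mk'_apply, QuotientGroup.mk'_apply, QuotientGroup.eq] at e; exact e⟩
  rw [Base.inf_eq_bot_of_isPGroup_of_coprime hP (Nat.coprime_two_right.2 hO), mem_bot] at h1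
  exact inv_mul_eq_one.1 h1

theorem eq_one_of_two_of_odd {x : G} (h2 : ∃ k : ℕ, orderOf x = 2 ^ k) (ho : Odd (orderOf x)) :
    x = 1 := by
  obtain ⟨k, hk⟩ := h2
  rcases k with _ | k
  · exact orderOf_eq_one_iff.1 (by simpa using hk)
  · rw [hk] at ho; exact absurd (even_two.pow_of_ne_zero (by omega)) (Nat.not_even_iff_odd.2 ho)

theorem mem_normalizer_zpowers {u g : G} (hg : g * u * g⁻¹ ∈ zpowers u) :
    g ∈ normalizer ((zpowers u : Subgroup G) : Set G) := by
  have he : zpowers (g * u * g⁻¹) = zpowers u := Subgroup.eq_of_le_of_card_ge ((zpowers_le).2 hg)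
    (by rw [Nat.card_zpowers, Nat.card_zpowers, II.orderOf_conj_eq])
  refine mem_normalizer_iff.2 fun x => ⟨fun hx => ?_, fun hx => ?_⟩
  · obtain ⟨i, rfl⟩ := mem_zpowers_iff.1 hx
    rw [← conj_zpow]
    exact zpow_mem hg i
  · rw [← he] at hx
    obtain ⟨i, hi⟩ := mem_zpowers_iff.1 hx
    rw [conj_zpow] at hi
    exact mem_zpowers_iff.2 ⟨i, (MulAut.conj g).injective (by simpa using hi)⟩

theorem CI.subgroup (hC : CI G) (H : Subgroup G) : CI H := by
  haveI : Fact (Nat.Prime 2) := ⟨Nat.prime_two⟩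
  intro A B hne
  obtain ⟨S, hS⟩ := (A.isPGroup'.map H.subtype).exists_le_sylow
  obtain ⟨T, hT⟩ := (B.isPGroup'.map H.subtype).exists_le_sylow
  have hST : S ≠ T := fun e => by
    subst e
    have hA := A.is_maximal' (S.isPGroup'.comap_of_injective _ H.subtype_injective)
      (map_le_iff_le_comap.1 hS)
    have hB := B.is_maximal' (S.isPGroup'.comap_of_injective _ H.subtype_injective)
      (map_le_iff_le_comap.1 hT)
    exact hne (Sylow.ext (hA.symm.trans hB))
  haveI := hC S T hST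
  let φ : ↥((A : Subgroup H) ⊓ B) →* ↥((S : Subgroup G) ⊓ T) :=
    (H.subtype.comp ((A : Subgroup H) ⊓ B).subtype).codRestrict _ fun x =>
      ⟨hS (mem_map_of_mem _ x.2.1), hT (mem_map_of_mem _ x.2.2)⟩
  exact isCyclic_of_injective φ fun a b e =>
    Subtype.ext (Subtype.ext (congrArg Subtype.val e :))

theorem CI.quotient (hC : CI G) (O : Subgroup G) [O.Normal] (hO : Odd (Nat.card O)) :
    CI (G ⧸ O) := by
  haveI : Fact (Nat.Prime 2) := ⟨Nat.prime_two⟩
  intro A B hne
  set π := QuotientGroup.mk' O with hπ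
  have hs : Function.Surjective π := QuotientGroup.mk'_surjective O
  obtain ⟨S, rfl⟩ := Sylow.mapSurjective_surjective hs 2 A
  obtain ⟨T, rfl⟩ := Sylow.mapSurjective_surjective hs 2 B
  set L := (T : Subgroup G) ⊔ O with hL
  set R := (S : Subgroup G) ⊓ L with hR
  have hRp : IsPGroup 2 R := S.isPGroup'.to_le inf_le_left
  obtain ⟨P', hP'⟩ := (hRp.comap_of_injective L.subtype L.subtype_injective).exists_le_sylow
  obtain ⟨U, hU⟩ := (P'.isPGroup'.map L.subtype).exists_le_sylow
  have hRU : R ≤ (U : Subgroup G) := fun x hx =>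
    hU (mem_map_of_mem L.subtype (hP' (show (⟨x, hx.2⟩ : L) ∈ R.comap L.subtype from hx)))
  have hne' : S ≠ U := by
    intro e
    subst e
    refine hne ?_
    have hcard : Nat.card ((P' : Subgroup L).map L.subtype) = Nat.card (T : Subgroup G) := by
      rw [Subgroup.card_map_of_injective L.subtype_injective, Sylow.card_eq_multiplicity,
        ← Sylow.card_eq_multiplicity (T.subtype (le_sup_left : (T : Subgroup G) ≤ L)),
        Sylow.coe_subtype, Nat.card_congr (Subgroup.subgroupOfEquivOfLe le_sup_left).toEquiv]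
    have h1 : ((P' : Subgroup L).map L.subtype).map π ≤ (T : Subgroup G).map π := by
      refine (map_mono (map_subtype_le _)).trans ?_
      rw [hL, Subgroup.map_sup, hπ, QuotientGroup.map_mk'_self, sup_bot_eq]
    have h2 := Subgroup.eq_of_le_of_card_ge h1 (by
      rw [hπ, card_map_of_two O hO T.isPGroup', card_map_of_two O hO (P'.isPGroup'.map _), hcard])
    have h3 : (T.mapSurjective hs : Subgroup (G ⧸ O)) ≤ S.mapSurjective hs := by
      rw [Sylow.coe_mapSurjective, Sylow.coe_mapSurjective, ← h2]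
      exact map_mono hU
    exact Sylow.ext ((T.mapSurjective hs).is_maximal' (S.mapSurjective hs).isPGroup' h3)
  haveI hRc : IsCyclic R := by
    haveI := hC S U hne'
    exact isCyclic_of_injective (Subgroup.inclusion (le_inf inf_le_left hRU))
      (Subgroup.inclusion_injective _)
  let φ : R →* ↥((S.mapSurjective hs : Subgroup (G ⧸ O)) ⊓ T.mapSurjective hs) :=
    (π.comp R.subtype).codRestrict _ fun x => by
      refine ⟨mem_map_of_mem π x.2.1, ?_⟩
      have h1 : π x ∈ L.map π := mem_map_of_mem π x.2.2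
      rwa [hL, Subgroup.map_sup, hπ, QuotientGroup.map_mk'_self, sup_bot_eq] at h1
  refine isCyclic_of_surjective φ ?_
  rintro ⟨y, hyA, hyB⟩
  obtain ⟨s, hs', rfl⟩ := hyA
  obtain ⟨t, ht, hts⟩ := hyB
  refine ⟨⟨s, hs', ?_⟩, rfl⟩
  have h1 : t⁻¹ * s ∈ O := by
    rw [hπ, QuotientGroup.mk'_apply, QuotientGroup.mk'_apply, QuotientGroup.eq] at hts
    exact hts
  show s ∈ L
  rw [show s = t * (t⁻¹ * s) by group]
  exact mul_mem (mem_sup_left ht) (mem_sup_right h1)

theorem oddCore_quotient (G : Type u) [Group G] [Finite G] : oddCore (G ⧸ oddCore G) = ⊥ :=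
  Base.pPrimeCore_quotient_pPrimeCore 2 G

namespace Hyp

variable {v z : G} (h : Hyp G v z)
include h

theorem false (ih : ∀ H : Subgroup G, H ≠ ⊤ → ¬ Group.IsSolvable (H ⧸ oddCore H) →
    ∀ u : H ⧸ oddCore H, (∃ k : ℕ, orderOf u = 2 ^ k) → (zpowers u).Normal → u ∈ center _) :
    False := by
  classical
  haveI : Fact (Nat.Prime 2) := ⟨Nat.prime_two⟩
  haveI hVn := h.normal
  obtain ⟨S⟩ : Nonempty (Sylow 2 G) := inferInstance
  obtain ⟨g, hgS, hgv, hgg, hgw⟩ := h.exists_inverter S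
  obtain ⟨T, hTS, w', hwT, hwo, hwz, hwv⟩ := h.exists_other S
  have hgU : Uniq g := h.uniq_of_noncomm hgv
  have hwU : Uniq w' := h.uniq_of_invol hwo hwz
  -- an involution modulo `⟨v⟩` commuting with both
  set π := QuotientGroup.mk' (zpowers v) with hπ
  have hker : ∀ x, π x = 1 ↔ x ∈ zpowers v := fun x => by
    rw [hπ, QuotientGroup.mk'_apply, QuotientGroup.eq_one_iff]
  have hvc : ∀ x ∈ zpowers v, Commute x v := fun x hx => by
    obtain ⟨i, rfl⟩ := mem_zpowers_iff.1 hx
    exact (Commute.refl v).zpow_left i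
  have hao : orderOf (π g) = 2 := invol_of (by rw [← map_mul, hgg, (hker z).2 h.zv])
    fun e => hgv (hvc g ((hker g).1 e))
  have hbo : orderOf (π w') = 2 := invol_of (by rw [← map_mul, invol_mul_self hwo, map_one])
    fun e => hwz (II.invol_unique hwo h.zo ((hker w').1 e) h.zv)
  set a := π g with ha
  set b := π w' with hb
  set ρ := a * b with hρ
  have haa := invol_mul_self hao
  have hbb := invol_mul_self hbo
  have hia : a * ρ * a⁻¹ = ρ⁻¹ := by
    rw [hρ, mul_inv_rev, invol_inv hao, invol_inv hbo, ← mul_assoc a a b, haa, one_mul]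
  have hib : b * ρ * b⁻¹ = ρ⁻¹ := by
    rw [hρ, mul_inv_rev, invol_inv hao, invol_inv hbo, mul_assoc b (a * b) b, mul_assoc a b b, hbb,
      mul_one]
  obtain ⟨k, hk⟩ | ⟨k, hk⟩ := Nat.even_or_odd (orderOf ρ)
  swap
  · -- odd product: `g` and `w'` are conjugate modulo `⟨v⟩`
    have hρn : ρ ^ (2 * k + 1) = 1 := by rw [← hk]; exact pow_orderOf_eq_one ρ
    have key : ρ ^ k * a * (ρ ^ k)⁻¹ = b := by
      have h1 : a * (ρ ^ k)⁻¹ = ρ ^ k * a := by
        rw [← inv_pow, ← hia, conj_pow, invol_inv hao, ← mul_assoc, ← mul_assoc, haa, one_mul]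
      calc ρ ^ k * a * (ρ ^ k)⁻¹ = ρ ^ k * ρ ^ k * a := by rw [mul_assoc, h1, ← mul_assoc]
        _ = ρ ^ (2 * k + 1) * (ρ⁻¹ * a) := by rw [pow_succ, two_mul, pow_add]; group
        _ = b := by rw [hρn, one_mul, hρ, mul_inv_rev, invol_inv hao, invol_inv hbo, mul_assoc,
            haa, mul_one]
    obtain ⟨c, hc⟩ := QuotientGroup.mk'_surjective (zpowers v) (ρ ^ k)
    have h1 : π (w'⁻¹ * (c * g * c⁻¹)) = 1 := by
      rw [map_mul, map_inv, map_mul, map_mul, map_inv, ← ha, ← hb, hπ, hc, key, inv_mul_cancel]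
    have h2 : Commute (c * g * c⁻¹) v := by
      have := hwv.mul_left (hvc _ ((hker _).1 h1))
      rwa [mul_inv_cancel_left] at this
    have h3 := h.conj_comm h2 c⁻¹
    rw [show c⁻¹ * (c * g * c⁻¹) * c⁻¹⁻¹ = g by group] at h3
    exact hgv h3
  -- even product
  have hk0 : 0 < k := by have := orderOf_pos ρ; omega
  set ub := ρ ^ k with hub
  have hub2 : ub * ub = 1 := by rw [hub, ← pow_add, ← hk, pow_orderOf_eq_one]
  have hub1 : ub ≠ 1 := pow_ne_one_of_lt_orderOf hk0.ne' (by omega)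
  have huba : Commute a ub := mul_inv_eq_iff_eq_mul.1 (by
    rw [hub, ← conj_pow, hia, inv_pow, ← hub]; exact invol_inv (invol_of hub2 hub1))
  have hubb : Commute b ub := mul_inv_eq_iff_eq_mul.1 (by
    rw [hub, ← conj_pow, hib, inv_pow, ← hub]; exact invol_inv (invol_of hub2 hub1))
  obtain ⟨u, hu⟩ := QuotientGroup.mk'_surjective (zpowers v) ub
  rw [← hπ] at hu
  have huV : u ∉ zpowers v := fun hmem => hub1 (by rw [← hu, (hker u).2 hmem])
  have hinS : ∀ {x : G} {R : Sylow 2 G}, Uniq x → x ∈ (R : Subgroup G) → orderOf (π x) = 2 →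
      Commute (π x) ub → u ∈ (R : Subgroup G) := by
    intro x R hx hxR hxo hxu
    have hp : IsPGroup 2 (zpowers (π x) ⊔ zpowers ub : Subgroup (G ⧸ zpowers v)) := by
      refine (isPGroup_zpowers_invol hxo).to_sup_of_normal_right'
        (isPGroup_zpowers_invol (invol_of hub2 hub1)) ((zpowers_le).2 ?_)
      rw [normalizer_invol (invol_of hub2 hub1), mem_centralizer_singleton_iff]
      exact hxu
    refine le_of_uniq hx hxR (hp.comap_of_ker_isPGroup π ?_) (mem_sup_left (mem_zpowers _))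
      (by rw [mem_comap, hu]; exact mem_sup_right (mem_zpowers ub))
    rw [hπ, QuotientGroup.ker_mk']
    exact isPGroup_zpowers h.two
  have huS : u ∈ (S : Subgroup G) := hinS hgU hgS hao huba
  have huT : u ∈ (T : Subgroup G) := hinS hwU hwT hbo hubb
  have hST := h.ci S T hTS.symm
  obtain ⟨K, hK⟩ := two_el huS
  obtain ⟨L, hL⟩ := h.two
  have hvu : v ∈ zpowers u := by
    refine cyclic_mem hST ⟨h.v_mem S, h.v_mem T⟩ ⟨huS, huT⟩ ?_
    rw [hK, hL]
    refine pow_dvd_pow 2 ?_
    by_contra hlt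
    exact huV (cyclic_mem hST ⟨huS, huT⟩ ⟨h.v_mem S, h.v_mem T⟩
      (hK ▸ hL ▸ pow_dvd_pow 2 (by omega)))
  have hVU : zpowers v ≤ zpowers u := (zpowers_le).2 hvu
  set G1 := normalizer ((zpowers u : Subgroup G) : Set G) with hG1
  have hmemG1 : ∀ x : G, Commute (π x) ub → x ∈ G1 := fun x hx => by
    refine mem_normalizer_zpowers ?_
    have h1 : π (x * u * x⁻¹ * u⁻¹) = 1 := by
      rw [map_mul, map_mul, map_mul, map_inv, map_inv, hu, hx.eq, mul_inv_cancel_right,
        mul_inv_cancel]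
    have h2 := mul_mem (hVU ((hker _).1 h1)) (mem_zpowers u)
    rwa [inv_mul_cancel_right] at h2
  have hgG1 : g ∈ G1 := hmemG1 g huba
  have hwG1 : w' ∈ G1 := hmemG1 w' hubb
  have hne : G1 ≠ ⊤ := fun e =>
    huV (h.max u ⟨K, hK⟩ hvu (normalizer_eq_top_iff.1 e))
  have huG1 : u ∈ G1 := le_normalizer (mem_zpowers u)
  set O1 := oddCore G1 with hO1
  haveI hO1n : O1.Normal := by rw [hO1]; unfold Cfsg.oddCore; infer_instance
  have hO1odd : Odd (Nat.card O1) := Base.odd_card_oddCore _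
  by_cases hsol : Group.IsSolvable (G1 ⧸ O1)
  swap
  · have hUn : (zpowers (⟨u, huG1⟩ : G1)).Normal := ⟨fun x hx c => by
      obtain ⟨i, rfl⟩ := mem_zpowers_iff.1 hx
      obtain ⟨j, hj⟩ := mem_zpowers_iff.1 (II.conj_mem c.2)
      rw [← conj_zpow]
      refine zpow_mem ?_ i
      rw [show c * ⟨u, huG1⟩ * c⁻¹ = (⟨u, huG1⟩ : G1) ^ j from Subtype.ext (by simpa using hj.symm)]
      exact zpow_mem (mem_zpowers _) j⟩
    set q := QuotientGroup.mk' O1 with hq
    have h2 : ∃ k : ℕ, orderOf (q ⟨u, huG1⟩) = 2 ^ k := by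
      have hd : orderOf (q ⟨u, huG1⟩) ∣ 2 ^ K := by
        refine (orderOf_map_dvd q _).trans ?_
        rw [Subgroup.orderOf_mk, hK]
      obtain ⟨m, -, hm⟩ := (Nat.dvd_prime_pow Nat.prime_two).1 hd
      exact ⟨m, hm⟩
    have hn : (zpowers (q ⟨u, huG1⟩)).Normal := by
      rw [← MonoidHom.map_zpowers]
      exact hUn.map q (QuotientGroup.mk'_surjective O1)
    have hcen := mem_center_iff.1 (ih G1 hne hsol _ h2 hn) (q ⟨g, hgG1⟩)
    have h1 : (⟨g, hgG1⟩ : G1) * ⟨u, huG1⟩ * (⟨g, hgG1⟩ : G1)⁻¹ * (⟨u, huG1⟩ : G1)⁻¹ ∈ O1 := by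
      rw [← QuotientGroup.eq_one_iff, ← QuotientGroup.mk'_apply, ← hq, map_mul, map_mul, map_mul,
        map_inv, map_inv, hcen, mul_inv_cancel_right, mul_inv_cancel]
    have hodd := hO1odd.of_dvd_nat (Subgroup.orderOf_dvd_natCard O1 h1)
    rw [← Subgroup.orderOf_coe] at hodd
    simp only [coe_mul, coe_inv] at hodd
    have hgu : Commute g u := by
      refine mul_inv_eq_iff_eq_mul.1 (mul_inv_eq_one.1 (eq_one_of_two_of_odd ?_ hodd))
      obtain ⟨j, hj⟩ := mem_zpowers_iff.1 (II.conj_mem hgG1)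
      exact two_el (T := S) (mul_mem (hj ▸ zpow_mem huS j) (inv_mem huS))
    obtain ⟨j, hj⟩ := mem_zpowers_iff.1 hvu
    exact hgv (hj ▸ hgu.zpow_right j)
  -- the solvable case
  have hp2 : IsPGroup 2 (zpowers g ⊔ zpowers u : Subgroup G) :=
    (isPGroup_zpowers (two_el hgS)).to_sup_of_normal_right' (isPGroup_zpowers ⟨K, hK⟩)
      ((zpowers_le).2 hgG1)
  obtain ⟨P, hP⟩ := (hp2.comap_of_injective G1.subtype G1.subtype_injective).exists_le_sylow
  set PG := (P : Subgroup G1).map G1.subtype with hPG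
  have hgP : g ∈ PG :=
    ⟨⟨g, hgG1⟩, hP (show (⟨g, hgG1⟩ : G1) ∈ (zpowers g ⊔ zpowers u).comap G1.subtype from
      mem_sup_left (mem_zpowers g)), rfl⟩
  have hPS : PG ≤ (S : Subgroup G) := le_of_uniq hgU hgS (P.isPGroup'.map _) hgP
  obtain ⟨c, hc⟩ := exists_conj_le P (W := zpowers (⟨w', hwG1⟩ : G1))
    (isPGroup_zpowers ⟨1, by rw [Subgroup.orderOf_mk, hwo, pow_one]⟩)
  set w := (c : G) * w' * (c : G)⁻¹ with hw
  have hwG : w ∈ G1 := mul_mem (mul_mem c.2 hwG1) (inv_mem c.2)
  have hwPG : w ∈ PG := ⟨_, hc _ (mem_zpowers _), rfl⟩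
  have hwo' : orderOf w = 2 := by rw [hw, II.orderOf_conj_eq]; exact hwo
  have hwz' : w ≠ z := fun e => hwz (by
    rw [show w' = (c : G)⁻¹ * w * c by rw [hw]; group, e, mul_assoc, ← (h.z_comm (c : G)).eq,
      inv_mul_cancel_left])
  have hgwc : Commute g w := hgw w (hPS hwPG) hwo'
  have hwc : Commute w v := h.invol_comm hwo'
  have hzc : Commute z v := (h.z_comm v).symm
  set A := zpowers g ⊔ zpowers w with hA
  have hform : ∀ x ∈ A, ∃ d ∈ zpowers z, x = d ∨ x = d * w ∨ x = d * g ∨ x = d * g * w := by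
    intro x hx
    have hn : zpowers g ≤ normalizer ((zpowers w : Subgroup G) : Set G) := by
      rw [zpowers_le, normalizer_invol hwo', mem_centralizer_singleton_iff]
      exact hgwc
    rw [hA, ← SetLike.mem_coe, Subgroup.coe_mul_of_left_le_normalizer_right _ _ hn] at hx
    obtain ⟨y, hy, t, ht, rfl⟩ := hx
    have hd : ∃ d ∈ zpowers z, y = d ∨ y = d * g := by
      rcases mem_four h.zo hgg hy with e | e | e | e
      · exact ⟨1, one_mem _, Or.inl e⟩
      · exact ⟨1, one_mem _, Or.inr (by rw [e, one_mul])⟩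
      · exact ⟨z, mem_zpowers z, Or.inl e⟩
      · refine ⟨z, mem_zpowers z, Or.inr ?_⟩
        rw [e, inv_eq_iff_mul_eq_one, ← mul_assoc, ← (h.z_comm g).symm.eq, mul_assoc, hgg, h.zz]
    obtain ⟨d, hd, hy'⟩ := hd
    refine ⟨d, hd, ?_⟩
    rcases mem_two (invol_mul_self hwo') ht with e | e
    · simp only [e, mul_one]
      rcases hy' with f | f
      · exact Or.inl f
      · exact Or.inr (Or.inr (Or.inl f))
    · simp only [e]
      rcases hy' with f | f
      · exact Or.inr (Or.inl (by rw [f]))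
      · exact Or.inr (Or.inr (Or.inr (by rw [f])))
  have hDc : ∀ d ∈ zpowers z, ∀ x : G, Commute x d := fun d hd x => by
    obtain ⟨i, rfl⟩ := mem_zpowers_iff.1 hd
    exact (h.z_comm x).zpow_right i
  have hDv : ∀ d ∈ zpowers z, d * d = 1 := fun d hd => by
    rcases mem_two h.zz hd with e | e <;> rw [e]
    · rw [one_mul]
    · exact h.zz
  haveI : IsMulCommutative A := by
    have h1 : ∀ x ∈ A, Commute x g ∧ Commute x w := by
      intro x hx
      obtain ⟨d, hd, e | e | e | e⟩ := hform x hx <;> rw [e]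
      · exact ⟨(hDc d hd g).symm, (hDc d hd w).symm⟩
      · exact ⟨(hDc d hd g).symm.mul_left hgwc.symm, (hDc d hd w).symm.mul_left (Commute.refl w)⟩
      · exact ⟨(hDc d hd g).symm.mul_left (Commute.refl g), (hDc d hd w).symm.mul_left hgwc⟩
      · exact ⟨((hDc d hd g).symm.mul_left (Commute.refl g)).mul_left hgwc.symm,
          ((hDc d hd w).symm.mul_left hgwc).mul_left (Commute.refl w)⟩
    refine ⟨⟨fun x y => Subtype.ext ?_⟩⟩
    show (x : G) * y = y * x
    obtain ⟨d, hd, e | e | e | e⟩ := hform y y.2 <;> rw [e]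
    · exact (hDc d hd x).eq
    · exact ((hDc d hd x).mul_right (h1 x x.2).2).eq
    · exact ((hDc d hd x).mul_right (h1 x x.2).1).eq
    · exact (((hDc d hd x).mul_right (h1 x x.2).1).mul_right (h1 x x.2).2).eq
  have hAS : A ≤ (S : Subgroup G) := sup_le ((zpowers_le).2 hgS) ((zpowers_le).2 (hPS hwPG))
  have hAG1 : A ≤ G1 := sup_le ((zpowers_le).2 hgG1) ((zpowers_le).2 hwG)
  set O := O1.map G1.subtype with hO
  have hOodd : Odd (Nat.card O) := by
    rw [hO, Subgroup.card_map_of_injective G1.subtype_injective]; exact hO1odd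
  have hOnorm : G1 ≤ normalizer (O : Set G) := by
    rw [hO, hO1]; exact Base.le_normalizer_map_pPrimeCore G1
  set N := normalizer ((S : Subgroup G) : Set G) with hN
  have hON : O ≤ N := by
    refine CfsgLib.Coprime.le_of_centralizer_cyclic_quotient_le (A := A) (R := N) (Nat.card A)
      (zpowers z) O (Nat.le_add_left _ _)
      ((zpowers_le).2 (hgg ▸ mul_mem (mem_sup_left (mem_zpowers g)) (mem_sup_left (mem_zpowers g))))
      (hAG1.trans hOnorm) ?_ ((zpowers_le).2 (mem_centralizer_iff.2 fun x _ => (h.z_comm x).eq)) ?_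
    · obtain ⟨m, hm⟩ := IsPGroup.iff_card.1 (S.isPGroup'.to_le hAS)
      rw [hm]
      exact Nat.Coprime.pow_left m hOodd.coprime_two_left
    intro B hBA hBc x hx
    obtain ⟨y, hyB, hyz⟩ : ∃ y ∈ B, y ∉ zpowers z := by
      by_contra hcon
      push Not at hcon
      obtain ⟨t, htA, ht⟩ := hBc
      have htt : t * t ∈ zpowers z := by
        obtain ⟨d, hd, e | e | e | e⟩ := hform t htA <;> rw [e]
        · exact mul_mem hd hd
        · rw [(hDc d hd w).mul_mul_mul_comm, invol_mul_self hwo', mul_one]; exact mul_mem hd hd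
        · rw [(hDc d hd g).mul_mul_mul_comm, hgg]; exact mul_mem (mul_mem hd hd) (mem_zpowers z)
        · rw [mul_assoc d g w, (hDc d hd (g * w)).mul_mul_mul_comm, hgwc.symm.mul_mul_mul_comm, hgg,
            invol_mul_self hwo', mul_one]
          exact mul_mem (mul_mem hd hd) (mem_zpowers z)
      have hcl : ∀ x ∈ A, x ∈ zpowers z ∨ t⁻¹ * x ∈ zpowers z := by
        intro x hx
        haveI : (zpowers z).Normal := ⟨fun y hy r => by
          rw [(hDc y hy r).eq, mul_inv_cancel_right]; exact hy⟩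
        have hx' : x ∈ zpowers z ⊔ zpowers t :=
          (sup_le_sup_right (show B ≤ zpowers z from hcon) _) (ht.symm ▸ hx)
        rw [mem_sup_of_normal_left] at hx'
        obtain ⟨d, hd, s, hs, rfl⟩ := hx'
        obtain ⟨i, rfl⟩ := mem_zpowers_iff.1 hs
        rcases Int.even_or_odd i with ⟨j, rfl⟩ | ⟨j, rfl⟩
        · left
          rw [← two_mul, zpow_mul, zpow_two]
          exact mul_mem hd (zpow_mem htt j)
        · right
          rw [zpow_add, zpow_one, zpow_mul, zpow_two, ← mul_assoc d, ← mul_assoc,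
            (hDc _ (mul_mem hd (zpow_mem htt j)) t⁻¹).eq, mul_assoc, inv_mul_cancel, mul_one]
          exact mul_mem hd (zpow_mem htt j)
      have hgz : g ∉ zpowers z := fun hmem => hgv (hvc g ((zpowers_le).2 h.zv hmem))
      have hwz'' : w ∉ zpowers z := fun hmem =>
        hwz' (II.invol_unique hwo' h.zo hmem (mem_zpowers z))
      have h1 := mul_mem (inv_mem ((hcl g (mem_sup_left (mem_zpowers g))).resolve_left hgz))
        ((hcl w (mem_sup_right (mem_zpowers w))).resolve_left hwz'')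
      rw [show (t⁻¹ * g)⁻¹ * (t⁻¹ * w) = g⁻¹ * w by group] at h1
      have h2 := hwc.mul_left (hvc _ ((zpowers_le).2 h.zv h1)).inv_left
      rw [mul_inv_rev, inv_inv, mul_inv_cancel_left] at h2
      exact hgv h2
    have hyU : Uniq y := by
      by_cases hyv : Commute y v
      swap
      · exact h.uniq_of_noncomm hyv
      obtain ⟨d, hd, hd'⟩ := hform y (hBA hyB)
      have hdv : Commute d v := hvc d ((zpowers_le).2 h.zv hd)
      rcases hd' with e | e | e | e
      · exact absurd (e ▸ hd) hyz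
      · refine h.uniq_of_invol (invol_of ?_ fun e' => hyz (e' ▸ one_mem _))
          (fun e' => hyz (e' ▸ mem_zpowers z))
        rw [e, (hDc d hd w).mul_mul_mul_comm, hDv d hd, one_mul, invol_mul_self hwo']
      · exfalso
        rw [e] at hyv
        exact hgv (by simpa using hdv.inv_left.mul_left hyv)
      · exfalso
        rw [e] at hyv
        exact hgv (by simpa [mul_assoc] using hdv.inv_left.mul_left (hyv.mul_left hwc.inv_left))
    refine mem_normalizer_of_uniq hyU (hAS (hBA hyB)) ?_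
    rw [← (mem_centralizer_iff.1 hx.2 y hyB), mul_inv_cancel_right]
    exact hAS (hBA hyB)
  have hcomm : ∀ o ∈ O1, ∀ p ∈ (P : Subgroup G1), Commute o p := by
    intro o ho p hp
    refine mul_inv_eq_iff_eq_mul.1 (mul_inv_eq_one.1 ?_)
    have h1 : o * p * o⁻¹ * p⁻¹ ∈ O1 := by
      rw [show o * p * o⁻¹ * p⁻¹ = o * (p * o⁻¹ * p⁻¹) by group]
      exact mul_mem ho (hO1n.conj_mem _ (inv_mem ho) p)
    refine Subtype.ext (eq_one_of_two_of_odd (x := ((o * p * o⁻¹ * p⁻¹ : G1) : G)) (two_el (T := S) ?_)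
      (hO1odd.of_dvd_nat ?_))
    · simp only [coe_mul, coe_inv]
      exact mul_mem ((mem_normalizer_iff.1 (hON (mem_map_of_mem _ ho)) _).1 (hPS (mem_map_of_mem _ hp)))
        (inv_mem (hPS (mem_map_of_mem _ hp)))
    · rw [Subgroup.orderOf_coe]; exact Subgroup.orderOf_dvd_natCard O1 h1
  set q := QuotientGroup.mk' O1 with hq
  have hqs : Function.Surjective q := QuotientGroup.mk'_surjective O1
  set C := pCore 2 (G1 ⧸ O1) with hC
  have hCle : C ≤ (P : Subgroup G1).map q := by
    have := Base.pCore_le_sylow (p := 2) (P.mapSurjective hqs)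
    rwa [Sylow.coe_mapSurjective] at this
  set Q0 := C.comap q ⊓ (P : Subgroup G1) with hQ0
  have hkP : ∀ x ∈ C.comap q, (∃ m : ℕ, orderOf x = 2 ^ m) → x ∈ Q0 := by
    intro x hx ⟨m, hm⟩
    refine ⟨hx, ?_⟩
    obtain ⟨p, hp, hpx⟩ := hCle hx
    have ho : x * p⁻¹ ∈ O1 := by
      rw [← QuotientGroup.eq_one_iff, ← QuotientGroup.mk'_apply, ← hq, map_mul, map_inv, hpx,
        mul_inv_cancel]
    have h1 : (x * p⁻¹) ^ 2 ^ m * p ^ 2 ^ m = 1 := by
      rw [← (hcomm _ ho p hp).mul_pow, inv_mul_cancel_right, ← hm, pow_orderOf_eq_one]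
    have h2 : (x * p⁻¹) ^ 2 ^ m = 1 := by
      refine eq_one_of_two_of_odd (two_el (T := P) ?_)
        (hO1odd.of_dvd_nat (Subgroup.orderOf_dvd_natCard O1 (pow_mem ho _)))
      rw [mul_eq_one_iff_eq_inv.1 h1]
      exact inv_mem (pow_mem hp _)
    have h3 : x * p⁻¹ = 1 := by
      refine eq_one_of_two_of_odd ?_ (hO1odd.of_dvd_nat (Subgroup.orderOf_dvd_natCard O1 ho))
      obtain ⟨j, -, hj⟩ := (Nat.dvd_prime_pow Nat.prime_two).1 (orderOf_dvd_of_pow_eq_one h2)
      exact ⟨j, hj⟩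
    rwa [mul_inv_eq_one.1 h3]
  have hfinal : ∀ c : G1, (c : G) ∈ N := by
    by_cases hQc : IsCyclic Q0
    · haveI hCc : IsCyclic C := by
        let φ : Q0 →* C := (q.comp Q0.subtype).codRestrict _ fun x => x.2.1
        refine isCyclic_of_surjective φ fun y => ?_
        obtain ⟨p, hp, hpy⟩ := hCle y.2
        exact ⟨⟨p, show q p ∈ C from hpy ▸ y.2, hp⟩, Subtype.ext hpy⟩
      obtain ⟨r, hr⟩ := IsCyclic.exists_generator (α := C)
      have hCz : C = zpowers (r : G1 ⧸ O1) := by
        refine le_antisymm (fun x hx => ?_) ((zpowers_le).2 r.2)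
        obtain ⟨i, hi⟩ := mem_zpowers_iff.1 (hr ⟨x, hx⟩)
        exact mem_zpowers_iff.2 ⟨i, congrArg Subtype.val hi⟩
      have hr2 : ∃ k : ℕ, orderOf (r : G1 ⧸ O1) = 2 ^ k := by
        obtain ⟨k, hk⟩ := IsPGroup.iff_orderOf.1 (Base.isPGroup_pCore 2 (G1 ⧸ O1)) r
        exact ⟨k, by rw [Subgroup.orderOf_coe]; exact hk⟩
      have hrn : (zpowers (r : G1 ⧸ O1)).Normal := by
        rw [← hCz, hC]; exact pCore_normal 2 _
      haveI := hsol
      have hcent := Base.centralizer_pCore_le_of_isSolvable (p := 2) (G := G1 ⧸ O1)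
        (oddCore_quotient G1)
      have hQ2 : IsPGroup 2 (G1 ⧸ O1) := by
        intro y
        obtain ⟨k, m, hm, hkm⟩ := Nat.exists_eq_two_pow_mul_odd (orderOf_pos y).ne'
        refine ⟨k, ?_⟩
        have hyo : orderOf (y ^ 2 ^ k) = m := by
          rw [orderOf_pow_of_dvd (by positivity) (hkm ▸ dvd_mul_right _ _), hkm,
            Nat.mul_div_cancel_left _ (by positivity)]
        have hyC : y ^ 2 ^ k ∈ C := hcent (mem_centralizer_iff.2 fun x hx => by
          rw [SetLike.mem_coe, ← hC, hCz] at hx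
          obtain ⟨i, rfl⟩ := mem_zpowers_iff.1 hx
          exact ((odd_commute_cyclic (hyo.symm ▸ hm) hr2 hrn).zpow_right i).eq.symm)
        obtain ⟨j, hj⟩ := IsPGroup.iff_orderOf.1 (Base.isPGroup_pCore 2 (G1 ⧸ O1)) ⟨_, hyC⟩
        rw [Subgroup.orderOf_mk] at hj
        exact eq_one_of_two_of_odd ⟨j, hj⟩ (hyo.symm ▸ hm)
      intro c
      have hc' : q c ∈ (P.mapSurjective hqs : Subgroup (G1 ⧸ O1)) := by
        rw [← (P.mapSurjective hqs).is_maximal' (hQ2.to_subgroup ⊤) le_top]; trivial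
      rw [Sylow.coe_mapSurjective] at hc'
      obtain ⟨p, hp, hpc⟩ := hc'
      have ho : c * p⁻¹ ∈ O1 := by
        rw [← QuotientGroup.eq_one_iff, ← QuotientGroup.mk'_apply, ← hq, map_mul, map_inv, hpc,
          mul_inv_cancel]
      have := mul_mem (hON (mem_map_of_mem G1.subtype ho))
        (le_normalizer (hPS (mem_map_of_mem G1.subtype hp)) : (p : G) ∈ N)
      simpa using this
    · intro c
      by_contra hcN
      refine hQc ?_
      have hne2 : ((c : G) • S : Sylow 2 G) ≠ S := fun e =>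
        hcN (Sylow.smul_eq_iff_mem_normalizer.1 e)
      haveI := h.ci _ _ hne2
      haveI hKn : (C.comap q).Normal := (pCore_normal 2 (G1 ⧸ O1)).comap q
      let φ : Q0 →* ↥((((c : G) • S : Sylow 2 G) : Subgroup G) ⊓ (S : Subgroup G)) :=
        (G1.subtype.comp Q0.subtype).codRestrict _ fun x => by
          refine ⟨?_, hPS (mem_map_of_mem _ x.2.2)⟩
          obtain ⟨m, hm⟩ := two_el (T := P) x.2.2
          have h1 : c⁻¹ * (x : G1) * c ∈ Q0 := hkP _ (by simpa using hKn.conj_mem _ x.2.1 c⁻¹) ⟨m, by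
            rw [show c⁻¹ * (x : G1) * c = c⁻¹ * x * c⁻¹⁻¹ by rw [inv_inv], II.orderOf_conj_eq]
            exact hm⟩
          rw [Sylow.coe_subgroup_smul]
          exact ⟨_, hPS (mem_map_of_mem G1.subtype h1.2), by simp [mul_assoc]⟩
      exact isCyclic_of_injective φ fun a b e =>
        Subtype.ext (Subtype.ext (congrArg Subtype.val e :))
  have hw'S : w' ∈ (S : Subgroup G) := by
    have hp : IsPGroup 2 (zpowers w' ⊔ (S : Subgroup G) : Subgroup G) :=
      (isPGroup_zpowers_invol hwo).to_sup_of_normal_right' S.isPGroup'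
        ((zpowers_le).2 (hfinal ⟨w', hwG1⟩))
    rw [← S.is_maximal' hp le_sup_right]
    exact mem_sup_left (mem_zpowers w')
  exact hTS (hwU T S hwT hw'S)

end Hyp

/-- A normal cyclic 2-subgroup is central. -/
theorem central : ∀ (n : ℕ) (G : Type u) [Group G] [Finite G], Nat.card G = n →
    ¬ Group.IsSolvable G → CI G → oddCore G = ⊥ →
    ∀ v : G, (∃ k : ℕ, orderOf v = 2 ^ k) → (zpowers v).Normal → v ∈ center G := by
  intro n
  induction n using Nat.strong_induction_on with
  | _ n ih =>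
    intro G _ _ hn hns hci hcore v0 h2 hnorm
    by_contra hnc
    let P : G → Prop := fun u =>
      (∃ k : ℕ, orderOf u = 2 ^ k) ∧ (zpowers u).Normal ∧ v0 ∈ zpowers u
    obtain ⟨v, hv, hmax⟩ := Set.exists_max_image {u | P u} orderOf (Set.toFinite _)
      ⟨v0, h2, hnorm, mem_zpowers v0⟩
    obtain ⟨hv2, hvn, hv0⟩ := hv
    have hvnc : v ∉ center G := fun hc => hnc ((zpowers_le).2 hc hv0)
    obtain ⟨k, hk⟩ := hv2
    have hk1 : k ≠ 0 := by
      rintro rfl
      have h1 : v = 1 := orderOf_eq_one_iff.1 (by simpa using hk)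
      exact hvnc (h1 ▸ one_mem _)
    have h : Hyp G v (v ^ 2 ^ (k - 1)) :=
      { ns := hns, ci := hci, core := hcore, two := ⟨k, hk⟩, normal := hvn, nc := hvnc
        max := fun u hu hvu hun => by
          have hle : zpowers v ≤ zpowers u := (zpowers_le).2 hvu
          have := Subgroup.eq_of_le_of_card_ge hle (by
            rw [Nat.card_zpowers, Nat.card_zpowers]; exact hmax u ⟨hu, hun, hle hv0⟩)
          exact this ▸ mem_zpowers u
        zv := pow_mem (mem_zpowers v) _
        zo := by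
          rw [orderOf_pow_of_dvd (by positivity) (hk ▸ pow_dvd_pow 2 (by omega)), hk,
            Nat.pow_div (by omega) (by norm_num), show k - (k - 1) = 1 by omega, pow_one] }
    refine h.false fun H hH hHns u hu hun => ?_
    haveI : (oddCore H).Normal := by unfold Cfsg.oddCore; infer_instance
    have hlt : Nat.card (H ⧸ oddCore H) < n := by
      refine (Nat.card_le_card_of_surjective _ (QuotientGroup.mk'_surjective _)).trans_lt ?_
      rw [← hn]
      exact lt_of_le_of_ne (Subgroup.card_le_card_group H) fun e => hH (Subgroup.eq_top_of_card_eq H e)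
    exact ih _ hlt (H ⧸ oddCore H) rfl hHns
      ((hci.subgroup H).quotient (oddCore H) (Base.odd_card_oddCore H)) (oddCore_quotient H) u hu hun

theorem aux (hns : ¬ Group.IsSolvable G) (hci : CI G) (hcore : oddCore G = ⊥) (M : Subgroup G)
    [M.Normal] (hM : Group.IsSolvable M) :
    IsCyclic M ∧ IsPGroup 2 M ∧ M ≤ center G := by
  haveI : Fact (Nat.Prime 2) := ⟨Nat.prime_two⟩
  obtain ⟨S⟩ : Nonempty (Sylow 2 G) := inferInstance
  have hT : ∃ T : Sylow 2 G, T ≠ S := by
    by_contra hcon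
    push Not at hcon
    haveI : Subsingleton (Sylow 2 G) := ⟨fun A B => (hcon A).trans (hcon B).symm⟩
    haveI : (S : Subgroup G).Normal := Sylow.normal_of_subsingleton S
    haveI := S.isPGroup'.isNilpotent
    exact hns (isSolvable_of_odd_index (S : Subgroup G) inferInstance
      (Nat.odd_iff.2 (Nat.two_dvd_ne_zero.1 S.not_dvd_index)))
  obtain ⟨T, hTS⟩ := hT
  set Z := pCore 2 G with hZ
  haveI hZn : Z.Normal := pCore_normal 2 G
  haveI hZc : IsCyclic Z := by
    haveI := hci T S hTS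
    exact isCyclic_of_injective (Subgroup.inclusion
      (le_inf (Base.pCore_le_sylow T) (Base.pCore_le_sylow S) : Z ≤ (T : Subgroup G) ⊓ S))
      (Subgroup.inclusion_injective _)
  have hmain : IsPGroup 2 M → IsCyclic M ∧ IsPGroup 2 M ∧ M ≤ center G := by
    intro hp
    have hle : M ≤ Z := Base.le_pCore hp
    haveI : IsCyclic M := isCyclic_of_injective (Subgroup.inclusion hle) (Subgroup.inclusion_injective _)
    refine ⟨inferInstance, hp, hle.trans fun x hx => ?_⟩
    obtain ⟨r, hr⟩ := IsCyclic.exists_generator (α := Z)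
    obtain ⟨i, hi⟩ := mem_zpowers_iff.1 (hr ⟨x, hx⟩)
    have hr2 : ∃ k : ℕ, orderOf (r : G) = 2 ^ k := by
      obtain ⟨k, hk⟩ := IsPGroup.iff_orderOf.1 (Base.isPGroup_pCore 2 G) r
      exact ⟨k, by rw [Subgroup.orderOf_coe]; exact hk⟩
    have hZr : Z = zpowers (r : G) := by
      refine le_antisymm (fun y hy => ?_) ((zpowers_le).2 r.2)
      obtain ⟨j, hj⟩ := mem_zpowers_iff.1 (hr ⟨y, hy⟩)
      exact mem_zpowers_iff.2 ⟨j, congrArg Subtype.val hj⟩
    have := central (Nat.card G) G rfl hns hci hcore (r : G) hr2 (hZr ▸ hZn)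
    rw [show x = (r : G) ^ i from (congrArg Subtype.val hi).symm]
    exact zpow_mem this i
  refine hmain ?_
  haveI := hM
  have hMcore : pPrimeCore 2 M = ⊥ := by
    have h1 : (pPrimeCore 2 M).map M.subtype ≤ ⊥ := by
      rw [Base.map_pPrimeCore_eq_inf M]
      exact inf_le_left.trans hcore.le
    rwa [le_bot_iff, Subgroup.map_eq_bot_iff_of_injective _ M.subtype_injective] at h1
  have hcent := Base.centralizer_pCore_le_of_isSolvable (p := 2) (G := M) hMcore
  haveI hCc : IsCyclic (pCore 2 M) := by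
    have hle : (pCore 2 M).map M.subtype ≤ Z := by
      rw [Base.map_pCore_eq_inf M]
      exact inf_le_left
    let φ : pCore 2 M →* Z :=
      (M.subtype.comp (pCore 2 M).subtype).codRestrict _ fun x => hle (mem_map_of_mem _ x.2)
    exact isCyclic_of_injective φ fun a b e =>
      Subtype.ext (Subtype.ext (congrArg Subtype.val e :))
  obtain ⟨r, hr⟩ := IsCyclic.exists_generator (α := pCore 2 M)
  have hr2 : ∃ k : ℕ, orderOf (r : M) = 2 ^ k := by
    obtain ⟨k, hk⟩ := IsPGroup.iff_orderOf.1 (Base.isPGroup_pCore 2 M) r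
    exact ⟨k, by rw [Subgroup.orderOf_coe]; exact hk⟩
  have hCz : pCore 2 M = zpowers (r : M) := by
    refine le_antisymm (fun y hy => ?_) ((zpowers_le).2 r.2)
    obtain ⟨j, hj⟩ := mem_zpowers_iff.1 (hr ⟨y, hy⟩)
    exact mem_zpowers_iff.2 ⟨j, congrArg Subtype.val hj⟩
  have hrn : (zpowers (r : M)).Normal := hCz ▸ pCore_normal 2 M
  intro y
  obtain ⟨k, m, hm, hkm⟩ := Nat.exists_eq_two_pow_mul_odd (orderOf_pos y).ne'
  refine ⟨k, ?_⟩
  have hyo : orderOf (y ^ 2 ^ k) = m := by
    rw [orderOf_pow_of_dvd (by positivity) (hkm ▸ dvd_mul_right _ _), hkm,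
      Nat.mul_div_cancel_left _ (by positivity)]
  have hyC : y ^ 2 ^ k ∈ pCore 2 M := hcent (mem_centralizer_iff.2 fun x hx => by
    rw [SetLike.mem_coe, hCz] at hx
    obtain ⟨i, rfl⟩ := mem_zpowers_iff.1 hx
    exact ((odd_commute_cyclic (hyo.symm ▸ hm) hr2 hrn).zpow_right i).eq.symm)
  obtain ⟨j, hj⟩ := IsPGroup.iff_orderOf.1 (Base.isPGroup_pCore 2 M) ⟨_, hyC⟩
  rw [Subgroup.orderOf_mk] at hj
  exact eq_one_of_two_of_odd ⟨j, hj⟩ (hyo.symm ▸ hm)

theorem main (hns : ¬ Group.IsSolvable G) (hci : CI G) (N : Subgroup G) [N.Normal]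
    (hN : Group.IsSolvable N) [(oddCore G).Normal] :
    IsCyclic (N.map (QuotientGroup.mk' (oddCore G))) ∧
      IsPGroup 2 (N.map (QuotientGroup.mk' (oddCore G))) ∧
      N.map (QuotientGroup.mk' (oddCore G)) ≤ center (G ⧸ oddCore G) := by
  have hodd := Base.odd_card_oddCore G
  have hOs : Group.IsSolvable (oddCore G) := CfsgLib.FT.isSolvable_of_odd hodd
  haveI : (N.map (QuotientGroup.mk' (oddCore G))).Normal :=
    Subgroup.Normal.map inferInstance _ (QuotientGroup.mk'_surjective _)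
  refine aux (fun hs => hns (Base.isSolvable_of_normal _ hOs hs))
    (hci.quotient (oddCore G) hodd) (oddCore_quotient G) _ ?_
  haveI := hN
  exact Group.isSolvable_of_surjective ((QuotientGroup.mk' (oddCore G)).subgroupMap_surjective N)

end CfsgLib.CycInt
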