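import Cfsg.Agent.Lib.CycInt.Pairs
import Cfsg.Agent.Lib.Coprime.Action

/-!
# Cyclic Sylow 2-intersections: an element inverting `v`
-/

set_option autoImplicit false
set_option linter.unusedSectionVars false
set_option linter.style.haveILetI false

namespace CfsgLib.CycInt

open Subgroup CfsgLib.Involutions CfsgLib.DGroup CfsgLib.DGroup.II

universe u

/-- In a quaternion group an element not centralizing the normal `⟨v⟩` squares to the involution. -/
theorem quat_sq {Q : Type*} [Group Q] [Finite Q] {m : ℕ} [NeZero m] (e : Q ≃* QuaternionGroup m)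
    {g v z : Q} (hz : orderOf z = 2) (huniq : ∀ x : Q, x * x = 1 → x = 1 ∨ x = z)
    (hn : (zpowers v).Normal) (hv : v * v ≠ 1) (hgv : ¬ Commute g v) : g * g = z := by
  have hzc : Commute z v := by
    refine (mul_inv_eq_iff_eq_mul.1 ?_ : Commute v z).symm
    rcases huniq (v * z * v⁻¹) (by
      rw [show v * z * v⁻¹ * (v * z * v⁻¹) = v * (z * z) * v⁻¹ by group, invol_mul_self hz, mul_one,
        mul_inv_cancel]) with h | h
    · exact absurd (conj_eq_one_iff.1 h) (invol_ne_one hz)
    · exact h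
  suffices h4 : g * g * (g * g) = 1 by
    refine (huniq _ h4).resolve_left fun h => ?_
    rcases huniq g h with e' | e'
    · exact hgv (e' ▸ Commute.one_left v)
    · exact hgv (e' ▸ hzc)
  have h2m : ((2 * m : ℕ) : ZMod (2 * m)) = 0 := ZMod.natCast_self _
  push_cast at h2m
  have hxa : ∀ i : ZMod (2 * m),
      QuaternionGroup.xa i * QuaternionGroup.xa i * (QuaternionGroup.xa i * QuaternionGroup.xa i) =
        (1 : QuaternionGroup m) := by
    intro i
    simp only [QuaternionGroup.xa_mul_xa, QuaternionGroup.a_mul_a, QuaternionGroup.one_def,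
      QuaternionGroup.a.injEq]
    linear_combination h2m
  apply e.injective
  rw [map_mul, map_mul, map_one]
  rcases hG : e g with i | i
  swap
  · exact hxa i
  rcases hV : e v with j | j
  · exact absurd (e.injective (by
      simp only [map_mul, hG, hV, QuaternionGroup.a_mul_a, add_comm i j]) : g * v = v * g) hgv
  have hv4 : v * v * (v * v) = 1 := e.injective (by rw [map_mul, map_mul, map_one, hV]; exact hxa j)
  have hvo : orderOf (v * v) = 2 := invol_of hv4 hv
  have hconj : g * v * g⁻¹ = v⁻¹ := by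
    rcases mem_four hvo rfl (hn.conj_mem v (mem_zpowers v) g) with h | h | h | h
    · rw [conj_eq_one_iff] at h; exact absurd (by rw [h, mul_one]) hv
    · exact absurd (mul_inv_eq_iff_eq_mul.1 h) hgv
    · exfalso
      have h1 : g * (v * v) * g⁻¹ = 1 := by
        rw [show g * (v * v) * g⁻¹ = g * v * g⁻¹ * (g * v * g⁻¹) by group, h, hv4]
      exact hv (conj_eq_one_iff.1 h1)
    · exact h
  have h1 := congrArg e hconj
  rw [map_mul, map_mul, map_inv, map_inv, hG, hV, mul_inv_eq_iff_eq_mul] at h1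
  have h2 : (QuaternionGroup.xa j : QuaternionGroup m)⁻¹ = QuaternionGroup.xa ((m : ZMod (2 * m)) + j) :=
    rfl
  rw [h2, QuaternionGroup.a_mul_xa, QuaternionGroup.xa_mul_a, QuaternionGroup.xa.injEq] at h1
  simp only [QuaternionGroup.a_mul_a, QuaternionGroup.one_def, QuaternionGroup.a.injEq]
  linear_combination (-2 : ZMod (2 * m)) * h1 - h2m

variable {G : Type u} [Group G] [Finite G] {v z : G}

theorem Hyp.exists_inverter (h : Hyp G v z) (S : Sylow 2 G) :
    ∃ g ∈ (S : Subgroup G), ¬ Commute g v ∧ g * g = z ∧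
      ∀ w ∈ (S : Subgroup G), orderOf w = 2 → Commute g w := by
  haveI : Fact (Nat.Prime 2) := ⟨Nat.prime_two⟩
  set N := normalizer ((S : Subgroup G) : Set G) with hN
  have hSN : (S : Subgroup G) ≤ N := le_normalizer
  haveI hnS : ((S : Subgroup G).subgroupOf N).Normal := Subgroup.normal_in_normalizer
  have hcop : (Nat.card ((S : Subgroup G).subgroupOf N)).Coprime
      ((S : Subgroup G).subgroupOf N).index := by
    rw [Nat.card_congr (Subgroup.subgroupOfEquivOfLe hSN).toEquiv]
    obtain ⟨k, hk⟩ := IsPGroup.iff_card.1 S.isPGroup'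
    rw [hk]
    refine Nat.Coprime.pow_left k ((Nat.Prime.coprime_iff_not_dvd Nat.prime_two).2 fun hd => ?_)
    exact S.not_dvd_index (hd.trans (Subgroup.relIndex_dvd_index_of_le hSN))
  obtain ⟨K, hK⟩ := Subgroup.exists_right_complement'_of_coprime hcop
  set D := K.map N.subtype with hD
  have hDN : D ≤ N := Subgroup.map_subtype_le K
  have hDodd : Odd (Nat.card D) := by
    rw [hD, Subgroup.card_map_of_injective N.subtype_injective, ← hK.symm.index_eq_card]
    exact Nat.odd_iff.2 (Nat.two_dvd_ne_zero.1 fun hd =>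
      S.not_dvd_index (hd.trans (Subgroup.relIndex_dvd_index_of_le hSN)))
  have hDv : ∀ d ∈ D, Commute d v := fun d hd =>
    odd_commute_cyclic (hDodd.of_dvd_nat (Subgroup.orderOf_dvd_natCard D hd)) h.two h.normal
  set T := (S : Subgroup G) ⊓ centralizer ({v} : Set G) with hT
  have hDT : D ≤ normalizer (T : Set G) := by
    refine (le_inf hDN (fun d hd => ?_)).trans inf_normalizer_le_normalizer_inf
    exact le_normalizer (mem_centralizer_singleton_iff.2 (hDv d hd))
  have hTp : IsPGroup 2 T := S.isPGroup'.to_le inf_le_left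
  have hcopT : (Nat.card D).Coprime (Nat.card T) := by
    obtain ⟨k, hk⟩ := IsPGroup.iff_card.1 hTp
    rw [hk]
    exact Nat.Coprime.pow_right k hDodd.coprime_two_right
  haveI := hTp.isNilpotent
  obtain ⟨g₁, hg₁, hg₁v⟩ := h.exists_noncomm S
  obtain ⟨g, hgD, hgT⟩ := CfsgLib.Coprime.exists_centralizing_in_coset hDT hcopT
    (Or.inr inferInstance) (k := g₁) (fun d hd => ⟨(S : Subgroup G).mul_mem ((S : Subgroup G).inv_mem hg₁)
      ((mem_normalizer_iff.1 (hDN hd) g₁).1 hg₁), mem_centralizer_singleton_iff.2 (by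
        have h1 : Commute (g₁⁻¹ * d * g₁) v := by
          have := h.conj_comm (hDv d hd) g₁⁻¹
          rwa [inv_inv] at this
        rw [show g₁⁻¹ * (d * g₁ * d⁻¹) = g₁⁻¹ * d * g₁ * d⁻¹ by group]
        exact (h1.mul_left (hDv d hd).inv_left).eq)⟩)
  have hgS : g ∈ (S : Subgroup G) := by
    have := mul_mem hg₁ hgT.1
    rwa [mul_inv_cancel_left] at this
  have hgv : ¬ Commute g v := fun hc => hg₁v (by
    have h1 : Commute (g₁⁻¹ * g) v := mem_centralizer_singleton_iff.1 hgT.2
    have h2 := (hc.mul_left h1.inv_left)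
    rwa [mul_inv_rev, inv_inv, mul_inv_cancel_left] at h2)
  set A := (S : Subgroup G) ⊓ centralizer (D : Set G) with hA
  have hvA : v ∈ A := ⟨h.v_mem S, mem_centralizer_iff.2 fun d hd => (hDv d hd).eq⟩
  have hzA : z ∈ A := (zpowers_le).2 hvA h.zv
  have huniq : ∀ y ∈ A, y * y = 1 → y = 1 ∨ y = z := by
    intro y hy hyy
    refine or_iff_not_imp_left.2 fun hy1 => by_contra fun hyz => ?_
    have hyo := invol_of hyy hy1
    refine h.pairs_ne hyo hyz hy.1 fun b hb hbo hbz => ?_
    obtain ⟨n, hn, hres⟩ := h.trans hyo hbo hyz hbz hy.1 hb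
    obtain ⟨⟨⟨s, hs⟩, ⟨k, hk⟩⟩, hsk⟩ := hK.2 ⟨n, hn⟩
    have hsk' : (s : G) * (k : G) = n := congrArg Subtype.val hsk
    have hs' : (s : G) ∈ (S : Subgroup G) := mem_subgroupOf.1 hs
    have hkD : (k : G) ∈ D := mem_map_of_mem _ hk
    have hky : (k : G) * y * (k : G)⁻¹ = y := by
      rw [(mem_centralizer_iff.1 hy.2 _ hkD), mul_inv_cancel_right]
    have hny : n * y * n⁻¹ = s * y * (s : G)⁻¹ := by
      rw [← hsk', show (s : G) * k * y * ((s : G) * k)⁻¹ = s * (k * y * (k : G)⁻¹) * (s : G)⁻¹ by group,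
        hky]
    rcases h.fixPair hyo hyz hy.1 _ hs' with e' | e' <;> rw [hny, e'] at hres
    · exact h.mem_pair hres
    · rcases hres with e | e
      · exact Or.inr e.symm
      · exact Or.inl (mul_right_cancel e).symm
  have hgA : g ∈ A := ⟨hgS, hgD⟩
  have hgg : g * g = z := by
    have huniqA : ∀ y : A, y * y = 1 → y = 1 ∨ y = ⟨z, hzA⟩ := fun y hy =>
      (huniq _ y.2 (congrArg Subtype.val hy)).imp (fun e => Subtype.ext e) fun e => Subtype.ext e
    have hnA : (zpowers (⟨v, hvA⟩ : A)).Normal := ⟨fun x hx a => by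
      obtain ⟨i, rfl⟩ := mem_zpowers_iff.1 hx
      obtain ⟨j, hj⟩ := mem_zpowers_iff.1 (h.normal.conj_mem v (mem_zpowers v) (a : G))
      rw [← conj_zpow]
      refine zpow_mem ?_ i
      rw [show a * ⟨v, hvA⟩ * a⁻¹ = (⟨v, hvA⟩ : A) ^ j from Subtype.ext (by simpa using hj.symm)]
      exact zpow_mem (mem_zpowers _) j⟩
    have hAp : IsPGroup 2 A := S.isPGroup'.to_le inf_le_left
    have hgv' : ¬ Commute (⟨g, hgA⟩ : A) ⟨v, hvA⟩ := fun hc => hgv (congrArg Subtype.val hc.eq)
    rcases PGroups.isCyclic_or_quaternion_of_unique hAp (z := (⟨z, hzA⟩ : A))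
      (Subtype.ext (by simpa [sq] using h.zz)) (fun y hy => by
        rcases huniqA y (by rw [← sq]; exact hy) with e | e <;> rw [e]
        · exact one_mem _
        · exact mem_zpowers _) with hcyc | ⟨-, n, -, ⟨e⟩⟩
    · exact absurd (cyclic_comm hcyc hgA hvA) hgv
    · refine congrArg Subtype.val (quat_sq e ?_ huniqA hnA ?_ hgv')
      · rw [← Subgroup.orderOf_coe]; exact h.zo
      · intro e'
        have hv2 : v ^ 2 = 1 := by rw [sq]; exact congrArg Subtype.val e'
        have := h.four_dvd.trans (orderOf_dvd_of_pow_eq_one hv2)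
        norm_num at this
  refine ⟨g, hgS, hgv, hgg, fun w hw hwo => ?_⟩
  by_cases hwz : w = z
  · rw [hwz]; exact h.z_comm g
  rcases h.fixPair hwo hwz hw g hgS with e | e
  · exact mul_inv_eq_iff_eq_mul.1 e
  exfalso
  have hsq : w * g * (w * g) = 1 := by
    calc w * g * (w * g) = w * (g * w * g⁻¹) * (g * g) := by group
      _ = w * w * (z * z) := by rw [e, hgg]; group
      _ = 1 := by rw [invol_mul_self hwo, h.zz, one_mul]
  have hne : w * g ≠ 1 := fun e' => hgv (by
    rw [eq_inv_of_mul_eq_one_right e']; exact (h.invol_comm hwo).inv_left)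
  have := (h.invol_comm (invol_of hsq hne))
  refine hgv ?_
  have h2 := (h.invol_comm hwo).inv_left.mul_left this
  rwa [inv_mul_cancel_left] at h2

end CfsgLib.CycInt
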