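import Cfsg.Agent.Lib.CycInt.Basic
import Cfsg.Agent.Lib.PGroups.Basic
import Cfsg.Agent.Lib.Involutions.ZStar.Main

/-!
# Cyclic Sylow 2-intersections: involutions
-/

set_option autoImplicit false
set_option linter.unusedSectionVars false
set_option linter.style.haveILetI false

namespace CfsgLib.CycInt

open Subgroup CfsgLib.Involutions CfsgLib.DGroup CfsgLib.DGroup.II

universe u

variable {G : Type u} [Group G] [Finite G] {v z : G}

/-- `w` spans with `z` a four group normalised by `S`. -/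
def FixPair (S : Sylow 2 G) (z w : G) : Prop :=
  ∀ s ∈ (S : Subgroup G), s * w * s⁻¹ = w ∨ s * w * s⁻¹ = w * z

namespace Hyp

variable (h : Hyp G v z)
include h

theorem mem_pair {a b : G} (hb : b = a ∨ b = a * z) : a = b ∨ a = b * z := by
  rcases hb with e | e
  · exact Or.inl e.symm
  · exact Or.inr (by rw [e, mul_assoc, h.zz, mul_one])

theorem mul_z_invol {a : G} (ha : orderOf a = 2) (haz : a ≠ z) :
    orderOf (a * z) = 2 ∧ a * z ≠ z := by
  refine ⟨invol_of ?_ fun e => haz ((mul_eq_one_iff_eq_inv.1 e).trans (invol_inv h.zo)), fun e =>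
    invol_ne_one ha (mul_eq_right.1 e)⟩
  rw [(h.z_comm a).symm.mul_mul_mul_comm, invol_mul_self ha, h.zz, one_mul]

theorem not_isCyclic (S : Sylow 2 G) :
    ¬ IsCyclic ↥((S : Subgroup G) ⊓ centralizer ({v} : Set G)) := by
  intro hcyc
  haveI : Fact (Nat.Prime 2) := ⟨Nat.prime_two⟩
  haveI := h.normal
  set f : G →* MulAut (zpowers v) := MulAut.conjNormal with hf
  have hker : f.ker = centralizer ({v} : Set G) := by
    ext g
    rw [MonoidHom.mem_ker, mem_centralizer_singleton_iff]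
    constructor
    · intro hg
      have h1 := congrArg (fun f : MulAut (zpowers v) => (f ⟨v, mem_zpowers v⟩ : G)) hg
      simp only [hf, MulAut.conjNormal_apply, MulAut.one_apply] at h1
      exact mul_inv_eq_iff_eq_mul.1 h1
    · intro hg
      ext ⟨x, hx⟩
      obtain ⟨i, rfl⟩ := mem_zpowers_iff.1 hx
      simp only [hf, MulAut.conjNormal_apply, MulAut.one_apply]
      have hg' : Commute g v := hg
      rw [(hg'.zpow_right i).eq, mul_inv_cancel_right]
  haveI : Group.IsSolvable (MulAut (zpowers v)) := Group.isSolvable_of_comm fun a b => by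
    refine MulEquiv.ext fun x => ?_
    obtain ⟨m, hm⟩ := MonoidHom.map_cyclic (a.toMonoidHom)
    obtain ⟨n, hn⟩ := MonoidHom.map_cyclic (b.toMonoidHom)
    simp only [MulEquiv.coe_toMonoidHom] at hm hn
    rw [MulAut.mul_apply, MulAut.mul_apply, hn x, map_zpow, hm x, map_zpow, hn x, ← zpow_mul,
      ← zpow_mul, mul_comm]
  haveI hsol : Group.IsSolvable f.ker := by
    obtain ⟨P⟩ : Nonempty (Sylow 2 f.ker) := inferInstance
    refine isSolvable_of_isCyclic P ?_
    obtain ⟨g, hg⟩ := exists_conj_le S (P.isPGroup'.map f.ker.subtype)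
    let φ : (P : Subgroup f.ker) →* ↥((S : Subgroup G) ⊓ centralizer ({v} : Set G)) :=
      { toFun := fun x => ⟨g * ((x : f.ker) : G) * g⁻¹, hg _ (mem_map_of_mem _ x.2),
          mem_centralizer_singleton_iff.2 (h.conj_comm
            (mem_centralizer_singleton_iff.1 (hker ▸ (x : f.ker).2)) g)⟩
        map_one' := Subtype.ext (by simp)
        map_mul' := fun a b => Subtype.ext (by simp [mul_assoc]) }
    exact isCyclic_of_injective φ fun a b e => Subtype.ext (Subtype.ext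
      ((MulAut.conj g).injective (congrArg Subtype.val e :)))
  exact h.ns (Group.isSolvable_of_ker_le_range f.ker.subtype f
    (by rw [Subgroup.range_subtype]))

theorem exists_fixed_pair (S : Sylow 2 G) :
    ∃ w ∈ (S : Subgroup G), orderOf w = 2 ∧ w ≠ z ∧ Commute w v ∧ FixPair S z w := by
  classical
  haveI : Fact (Nat.Prime 2) := ⟨Nat.prime_two⟩
  set T := (S : Subgroup G) ⊓ centralizer ({v} : Set G) with hT
  let P : G → Prop := fun u =>
    u ∈ T ∧ v ∈ zpowers u ∧ ∀ s ∈ (S : Subgroup G), s * u * s⁻¹ ∈ zpowers u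
  obtain ⟨u, hu, humax⟩ := Set.exists_max_image {u | P u} orderOf (Set.toFinite _)
    ⟨v, ⟨h.v_mem S, mem_centralizer_singleton_iff.2 rfl⟩, mem_zpowers v,
      fun s _ => h.normal.conj_mem v (mem_zpowers v) s⟩
  obtain ⟨huT, hvu, hnorm⟩ := hu
  have hUle : zpowers u ≤ T := (zpowers_le).2 huT
  have hUne : ¬ T ≤ zpowers u := fun hle =>
    h.not_isCyclic S (by rw [← hT, le_antisymm hle hUle]; infer_instance)
  have hconjU : ∀ s ∈ (S : Subgroup G), ∀ x ∈ zpowers u, s * x * s⁻¹ ∈ zpowers u := by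
    intro s hs x hx
    obtain ⟨i, rfl⟩ := mem_zpowers_iff.1 hx
    rw [← conj_zpow]
    exact zpow_mem (hnorm s hs) i
  let U : Subgroup (S : Subgroup G) := (zpowers u).subgroupOf S
  haveI : U.Normal := ⟨fun n hn s => mem_subgroupOf.2 (by
    simpa using hconjU s s.2 n (mem_subgroupOf.1 hn))⟩
  haveI : (T.subgroupOf S).Normal := ⟨fun n hn s => mem_subgroupOf.2
    ⟨(s * n * s⁻¹ : (S : Subgroup G)).2, mem_centralizer_singleton_iff.2 (by
      simpa using (h.conj_comm (mem_centralizer_singleton_iff.1 (mem_subgroupOf.1 hn).2) (s : G)).eq)⟩⟩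
  let M : Subgroup ((S : Subgroup G) ⧸ U) := (T.subgroupOf S).map (QuotientGroup.mk' U)
  haveI : M.Normal := Subgroup.Normal.map inferInstance _ (QuotientGroup.mk'_surjective U)
  have hp : IsPGroup 2 ((S : Subgroup G) ⧸ U) := S.isPGroup'.to_quotient U
  have hM : M ≠ ⊥ := fun e => hUne fun x hx => by
    have h1 : QuotientGroup.mk' U ⟨x, hx.1⟩ ∈ M := mem_map_of_mem _ (mem_subgroupOf.2 hx)
    rw [e, mem_bot, QuotientGroup.mk'_apply, QuotientGroup.eq_one_iff] at h1
    exact mem_subgroupOf.1 h1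
  obtain ⟨q, hqM, hqc, hq2, hq1⟩ : ∃ q ∈ M, q ∈ center _ ∧ q * q = 1 ∧ q ≠ 1 := by
    set X := M ⊓ center ((S : Subgroup G) ⧸ U) with hX
    haveI : Nontrivial X :=
      (Subgroup.nontrivial_iff_ne_bot X).2 (PGroups.inf_center_ne_bot hp hM)
    obtain ⟨n, hn, hcard⟩ := (hp.to_subgroup X).nontrivial_iff_card.1 inferInstance
    obtain ⟨q, hq⟩ := exists_prime_orderOf_dvd_card' (G := X) 2 (hcard ▸ dvd_pow_self 2 hn.ne')
    rw [← orderOf_coe] at hq
    exact ⟨q, q.2.1, q.2.2, invol_mul_self hq, invol_ne_one hq⟩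
  obtain ⟨⟨y, hyS⟩, hyT', rfl⟩ := hqM
  rw [SetLike.mem_coe, mem_subgroupOf] at hyT'
  have hyT : y ∈ T := hyT'
  have hyU : y ∉ zpowers u := fun hmem => hq1 (by
    rw [QuotientGroup.mk'_apply, QuotientGroup.eq_one_iff]
    exact mem_subgroupOf.2 hmem)
  have hy2 : y * y ∈ zpowers u := by
    rw [← map_mul, QuotientGroup.mk'_apply, QuotientGroup.eq_one_iff] at hq2
    exact mem_subgroupOf.1 hq2
  have hsy : ∀ s ∈ (S : Subgroup G), s * y * s⁻¹ * y⁻¹ ∈ zpowers u := by
    intro s hs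
    have h1 := mem_center_iff.1 hqc (QuotientGroup.mk' U ⟨s, hs⟩)
    rw [← map_mul, ← map_mul, QuotientGroup.mk'_apply, QuotientGroup.mk'_apply,
      QuotientGroup.eq] at h1
    have h2 := inv_mem (mem_subgroupOf.1 h1)
    simp only [coe_mul, coe_inv, mul_inv_rev, inv_inv] at h2
    have h3 := hconjU _ (mul_mem hyS hs) _ h2
    rwa [show y * s * (s⁻¹ * y⁻¹ * (s * y)) * (y * s)⁻¹ = s * y * s⁻¹ * y⁻¹ by group] at h3
  obtain ⟨K, hK⟩ := two_el huT.1
  obtain ⟨c, hc⟩ := mem_zpowers_iff.1 hy2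
  obtain ⟨σ, hσ⟩ := mem_zpowers_iff.1 (hnorm y hyS)
  obtain ⟨j, hj⟩ := mem_zpowers_iff.1 hvu
  have hyv : Commute y v := mem_centralizer_singleton_iff.1 hyT.2
  -- the action of `y` on `⟨u⟩` is trivial modulo 4
  have hσ4 : (4 : ℤ) ∣ σ - 1 := by
    have h1 : v ^ σ = v := by
      rw [← hj, ← zpow_mul, mul_comm, zpow_mul, hσ, conj_zpow, hj, hyv.eq, mul_inv_cancel_right]
    have h2 : v ^ (σ - 1) = 1 := by rw [zpow_sub_one, h1, mul_inv_cancel]
    exact (Int.natCast_dvd_natCast.2 h.four_dvd).trans (orderOf_dvd_iff_zpow_eq_one.2 h2)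
  rcases Int.even_or_odd c with ⟨c', rfl⟩ | hcodd
  swap
  · exfalso
    have hdvd : orderOf (y * y) ∣ orderOf u := orderOf_dvd_of_mem_zpowers hy2
    have hgcd : Int.gcd c (2 ^ K : ℕ) = 1 := by
      rw [Int.gcd_eq_natAbs, Int.natAbs_natCast]
      exact Nat.Coprime.pow_right K (Nat.Coprime.symm (Odd.coprime_two_left (Int.natAbs_odd.2 hcodd)))
    have huy : u ∈ zpowers y := by
      have hB := Int.gcd_eq_gcd_ab c (2 ^ K : ℕ)
      rw [hgcd] at hB
      have : u = (y * y) ^ Int.gcdA c (2 ^ K : ℕ) := by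
        rw [← hc, ← zpow_mul, show c * Int.gcdA c (2 ^ K : ℕ) =
            1 + ((2 ^ K : ℕ) : ℤ) * (-Int.gcdB c (2 ^ K : ℕ)) by rw [Nat.cast_one] at hB; linarith,
          zpow_add, zpow_one, zpow_mul, zpow_natCast, ← hK, pow_orderOf_eq_one, one_zpow, mul_one]
      rw [this]
      exact zpow_mem (mul_mem (mem_zpowers y) (mem_zpowers y)) _
    have hle : zpowers u ≤ zpowers y := (zpowers_le).2 huy
    have hPy : P y := ⟨hyT, hle hvu, fun s hs => by
      have := mul_mem (hle (hsy s hs)) (mem_zpowers y)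
      rwa [inv_mul_cancel_right] at this⟩
    have h3 := humax y hPy
    rw [← Nat.card_zpowers, ← Nat.card_zpowers u] at h3
    exact hyU ((Subgroup.eq_of_le_of_card_ge hle h3) ▸ mem_zpowers y)
  -- `σ + 1 = 2 e` with `e` odd
  obtain ⟨f, hf⟩ := hσ4
  obtain ⟨e, he, heodd⟩ : ∃ e : ℤ, σ + 1 = 2 * e ∧ Odd e :=
    ⟨2 * f + 1, by linarith, ⟨f, rfl⟩⟩
  have hge : Int.gcd e (2 ^ K : ℕ) = 1 := by
    rw [Int.gcd_eq_natAbs, Int.natAbs_natCast]
    exact Nat.Coprime.pow_right K (Nat.Coprime.symm (Odd.coprime_two_left (Int.natAbs_odd.2 heodd)))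
  have hB := Int.gcd_eq_gcd_ab e (2 ^ K : ℕ)
  rw [hge, Nat.cast_one] at hB
  set a := Int.gcdA e (2 ^ K : ℕ)
  set b := Int.gcdB e (2 ^ K : ℕ)
  have huN : u ^ ((2 ^ K : ℕ) : ℤ) = 1 := by rw [zpow_natCast, ← hK, pow_orderOf_eq_one]
  set w := y * u ^ (-c' * a) with hw
  have hwconj : ∀ i : ℤ, w * u ^ i * w⁻¹ = u ^ (σ * i) := fun i => by
    rw [hw, show y * u ^ (-c' * a) * u ^ i * (y * u ^ (-c' * a))⁻¹ = y * u ^ i * y⁻¹ by group,
      ← conj_zpow, ← hσ, ← zpow_mul]
  have hww : w * w = 1 := by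
    calc w * w = y * u ^ (-c' * a) * y⁻¹ * (y * y) * u ^ (-c' * a) := by rw [hw]; group
      _ = u ^ (σ * (-c' * a)) * u ^ (c' + c') * u ^ (-c' * a) := by
        rw [← conj_zpow, ← hσ, ← zpow_mul, hc]
      _ = (u ^ ((2 ^ K : ℕ) : ℤ)) ^ (2 * c' * b) := by
        rw [← zpow_add, ← zpow_add, ← zpow_mul]
        congr 1
        linear_combination (-c' * a) * he + (2 * c') * hB
      _ = 1 := by rw [huN, one_zpow]
  have hwU : w ∉ zpowers u := fun hmem => hyU (by
    have := mul_mem hmem (inv_mem (zpow_mem (mem_zpowers u) (-c' * a)))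
    rwa [hw, mul_inv_cancel_right] at this)
  have hw1 : w ≠ 1 := fun e' => hwU (e' ▸ one_mem _)
  have hwz : w ≠ z := fun e' => hwU (e' ▸ (zpowers_le).2 hvu h.zv)
  have hwT : w ∈ T := mul_mem hyT (zpow_mem huT _)
  refine ⟨w, hwT.1, invol_of hww hw1, hwz, mem_centralizer_singleton_iff.1 hwT.2, fun s hs => ?_⟩
  obtain ⟨α, hα⟩ : ∃ α : ℤ, u ^ α = s * w * s⁻¹ * w⁻¹ := mem_zpowers_iff.1 (by
    have h1 : s * w * s⁻¹ * w⁻¹ = s * y * s⁻¹ * y⁻¹ *
        (y * (s * u ^ (-c' * a) * s⁻¹ * (u ^ (-c' * a))⁻¹) * y⁻¹) := by rw [hw]; group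
    rw [h1]
    exact mul_mem (hsy s hs) (hconjU y hyS _ (mul_mem (hconjU s hs _ (zpow_mem (mem_zpowers u) _))
      (inv_mem (zpow_mem (mem_zpowers u) _)))))
  have hsw : s * w * s⁻¹ = u ^ α * w := by rw [hα, inv_mul_cancel_right]
  have h2 : u ^ α * u ^ (σ * α) = 1 := by
    calc u ^ α * u ^ (σ * α) = u ^ α * w * (u ^ α * w) * (w * w)⁻¹ := by rw [← hwconj]; group
      _ = s * (w * w) * s⁻¹ * (w * w)⁻¹ := by rw [← hsw]; group
      _ = 1 := by rw [hww]; group
  have hsq : u ^ α * u ^ α = 1 := by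
    rw [← zpow_add] at h2 ⊢
    have h3 : u ^ (α + α) = (u ^ (α + σ * α)) ^ a * (u ^ ((2 ^ K : ℕ) : ℤ)) ^ (2 * α * b) := by
      rw [← zpow_mul, ← zpow_mul, ← zpow_add]
      congr 1
      linear_combination (-α * a) * he + (2 * α) * hB
    rw [h3, h2, huN, one_zpow, one_zpow, one_mul]
  by_cases hα1 : u ^ α = 1
  · exact Or.inl (by rw [hsw, hα1, one_mul])
  · refine Or.inr ?_
    rw [hsw, invol_unique (invol_of hsq hα1) h.zo (zpow_mem (mem_zpowers u) α)
      ((zpowers_le).2 hvu h.zv), (h.z_comm w).eq]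

/-- Involutions in different Sylow subgroups are conjugate modulo `z`. -/
theorem link {a b : G} (ha : orderOf a = 2) (hb : orderOf b = 2) (haz : a ≠ z) (hbz : b ≠ z)
    (hac : Commute a v) {S T : Sylow 2 G} (haS : a ∈ (S : Subgroup G)) (hbT : b ∈ (T : Subgroup G))
    (hne : S ≠ T) : ∃ g : G, g * a * g⁻¹ = b ∨ g * a * g⁻¹ = b * z := by
  haveI : Fact (Nat.Prime 2) := ⟨Nat.prime_two⟩
  set ρ := a * b with hρ
  have haa := invol_mul_self ha
  have hbb := invol_mul_self hb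
  have hia : a * ρ * a⁻¹ = ρ⁻¹ := by
    rw [hρ, mul_inv_rev, invol_inv ha, invol_inv hb, ← mul_assoc a a b, haa, one_mul]
  have hib : b * ρ * b⁻¹ = ρ⁻¹ := by
    rw [hρ, mul_inv_rev, invol_inv ha, invol_inv hb, mul_assoc b (a * b) b, mul_assoc a b b, hbb,
      mul_one]
  obtain ⟨e, n, hn, hen⟩ := Nat.exists_eq_two_pow_mul_odd (orderOf_pos ρ).ne'
  set ρ₂ := ρ ^ n with hρ₂
  have hρ₂o : orderOf ρ₂ = 2 ^ e := by
    rw [hρ₂, orderOf_pow_of_dvd hn.pos.ne' (hen ▸ dvd_mul_left _ _), hen,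
      Nat.mul_div_cancel _ hn.pos]
  have hmem : ∀ {c : G} {R : Sylow 2 G}, c * ρ * c⁻¹ = ρ⁻¹ → orderOf c = 2 → c ≠ z →
      c ∈ (R : Subgroup G) → ρ₂ ∈ (R : Subgroup G) := by
    intro c R hc hco hcz hcR
    have hconj : c * ρ₂ * c⁻¹ = ρ₂⁻¹ := by rw [hρ₂, ← conj_pow, hc, inv_pow]
    have hconj' : ∀ i : ℤ, c * ρ₂ ^ i * c⁻¹ = ρ₂ ^ (-i) := fun i => by
      rw [← conj_zpow, hconj, inv_zpow, zpow_neg]
    have hnorm : zpowers c ≤ normalizer ((zpowers ρ₂ : Subgroup G) : Set G) := by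
      rw [zpowers_le, mem_normalizer_iff]
      refine fun y => ⟨fun hy => ?_, fun hy => ?_⟩
      · obtain ⟨i, rfl⟩ := mem_zpowers_iff.1 hy
        exact mem_zpowers_iff.2 ⟨-i, (hconj' i).symm⟩
      · obtain ⟨i, hi⟩ := mem_zpowers_iff.1 hy
        refine mem_zpowers_iff.2 ⟨-i, ?_⟩
        rw [← hconj' i, hi, invol_inv hco]
        rw [show c * (c * y * c) * c = c * c * y * (c * c) by group, invol_mul_self hco, one_mul,
          mul_one]
    refine le_of_uniq (h.uniq_of_invol hco hcz) hcR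
      ((isPGroup_zpowers_invol hco).to_sup_of_normal_right' (isPGroup_zpowers ⟨e, hρ₂o⟩) hnorm)
      (mem_sup_left (mem_zpowers c)) (mem_sup_right (mem_zpowers ρ₂))
  have hR : ρ₂ ∈ (S : Subgroup G) ⊓ (T : Subgroup G) :=
    ⟨hmem hia ha haz haS, hmem hib hb hbz hbT⟩
  have hcyc := h.ci S T hne
  have h22 : ρ₂ * ρ₂ = 1 := by
    by_contra hρρ
    have he : 2 ≤ e := by
      by_contra hlt
      refine hρρ ?_
      rw [← sq]
      exact orderOf_dvd_iff_pow_eq_one.1 (hρ₂o ▸ pow_dvd_pow 2 (show e ≤ 1 by omega))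
    set ρ₀ := ρ₂ ^ 2 ^ (e - 2) with hρ₀
    have hρ₀o : orderOf ρ₀ = 4 := by
      rw [hρ₀, orderOf_pow_of_dvd (by positivity) (hρ₂o ▸ pow_dvd_pow 2 (by omega)), hρ₂o,
        Nat.pow_div (by omega) (by norm_num), show e - (e - 2) = 2 by omega]
    obtain ⟨i, hi⟩ := mem_zpowers_iff.1 (cyclic_mem hcyc (pow_mem hR (2 ^ (e - 2)))
      (⟨h.v_mem S, h.v_mem T⟩) (hρ₀o ▸ h.four_dvd))
    have hc : Commute a ρ₀ := by rw [hρ₀, ← hi]; exact hac.zpow_right i
    have hinv : a * ρ₀ * a⁻¹ = ρ₀⁻¹ := by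
      rw [hρ₀, hρ₂, ← pow_mul, ← conj_pow, hia, inv_pow]
    rw [hc.eq, mul_inv_cancel_right] at hinv
    have h2 : orderOf ρ₀ ∣ 2 := orderOf_dvd_of_pow_eq_one (by
      rw [sq]; exact mul_eq_one_iff_eq_inv.2 hinv)
    rw [hρ₀o] at h2
    exact absurd h2 (by norm_num)
  obtain ⟨k, hk⟩ := hn
  refine ⟨ρ ^ k, ?_⟩
  have key : ρ ^ k * a * (ρ ^ k)⁻¹ = ρ₂ * b := by
    have h1 : a * (ρ ^ k)⁻¹ = ρ ^ k * a := by
      rw [← inv_pow, ← hia, conj_pow, invol_inv ha, ← mul_assoc, ← mul_assoc, haa, one_mul]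
    rw [mul_assoc, h1, ← mul_assoc, hρ₂, hk, show 2 * k + 1 = k + k + 1 by omega, pow_succ, ← pow_add,
      hρ, mul_assoc ((a * b) ^ (k + k)), mul_assoc a b b, hbb, mul_one]
  rw [key]
  by_cases h1 : ρ₂ = 1
  · exact Or.inl (by rw [h1, one_mul])
  · exact Or.inr (by
      rw [cyclic_invol hcyc hR ⟨h.z_mem S, h.z_mem T⟩ (invol_of h22 h1) h.zo, (h.z_comm b).eq])

theorem exists_other (S : Sylow 2 G) : ∃ T : Sylow 2 G, T ≠ S ∧ ∃ w ∈ (T : Subgroup G),
    orderOf w = 2 ∧ w ≠ z ∧ Commute w v := by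
  obtain ⟨T, hT⟩ := h.exists_ne S
  obtain ⟨w, hwT, hwo, hwz, hwv, -⟩ := h.exists_fixed_pair T
  exact ⟨T, hT, w, hwT, hwo, hwz, hwv⟩

theorem invol_comm {b : G} (hb : orderOf b = 2) : Commute b v := by
  by_cases hbz : b = z
  · rw [hbz]; exact (h.z_comm v).symm
  haveI : Fact (Nat.Prime 2) := ⟨Nat.prime_two⟩
  obtain ⟨S, hS⟩ := (isPGroup_zpowers_invol hb).exists_le_sylow
  obtain ⟨T, hTS, w, hwT, hwo, hwz, hwv⟩ := h.exists_other S
  obtain ⟨g, hg⟩ := h.link hwo hb hwz hbz hwv hwT (hS (mem_zpowers b)) hTS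
  rcases hg with e | e
  · exact e ▸ h.conj_comm hwv g
  · have h1 := (h.conj_comm hwv g).mul_left (h.z_comm v).symm
    rwa [e, mul_assoc, h.zz, mul_one] at h1

theorem trans {S : Sylow 2 G} {a b : G} (ha : orderOf a = 2) (hb : orderOf b = 2) (haz : a ≠ z)
    (hbz : b ≠ z) (haS : a ∈ (S : Subgroup G)) (hbS : b ∈ (S : Subgroup G)) :
    ∃ g ∈ normalizer ((S : Subgroup G) : Set G), g * a * g⁻¹ = b ∨ g * a * g⁻¹ = b * z := by
  obtain ⟨T, hTS, w, hwT, hwo, hwz, hwv⟩ := h.exists_other S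
  obtain ⟨g, hg⟩ := h.link ha hwo haz hwz (h.invol_comm ha) haS hwT hTS.symm
  obtain ⟨k, hk⟩ := h.link hwo hb hwz hbz hwv hwT hbS hTS
  have hz : ∀ x : G, x * z * x⁻¹ = z := fun x => by
    rw [(h.z_comm x).eq, mul_inv_cancel_right]
  have hres : k * g * a * (k * g)⁻¹ = b ∨ k * g * a * (k * g)⁻¹ = b * z := by
    rw [show k * g * a * (k * g)⁻¹ = k * (g * a * g⁻¹) * k⁻¹ by group]
    rcases hg with e | e <;> rw [e]
    · exact hk
    · rw [show k * (w * z) * k⁻¹ = k * w * k⁻¹ * (k * z * k⁻¹) by group, hz]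
      rcases hk with e' | e' <;> rw [e']
      · exact Or.inr rfl
      · exact Or.inl (by rw [mul_assoc, h.zz, mul_one])
  refine ⟨k * g, ?_, hres⟩
  refine mem_normalizer_of_uniq (h.uniq_of_invol ha haz) haS ?_
  rcases hres with e | e <;> rw [e]
  · exact hbS
  · exact mul_mem hbS (h.z_mem S)

theorem fixPair {S : Sylow 2 G} {b : G} (hb : orderOf b = 2) (hbz : b ≠ z)
    (hbS : b ∈ (S : Subgroup G)) : FixPair S z b := by
  obtain ⟨w, hwS, hwo, hwz, -, hw⟩ := h.exists_fixed_pair S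
  obtain ⟨g, hg, hgw⟩ := h.trans hwo hb hwz hbz hwS hbS
  have hz : ∀ x : G, x * z * x⁻¹ = z := fun x => by
    rw [(h.z_comm x).eq, mul_inv_cancel_right]
  intro s hs
  have hs' : g⁻¹ * s * g ∈ (S : Subgroup G) := by
    have := (mem_normalizer_iff.1 (inv_mem hg) s).1 hs
    simpa using this
  have h1 := hw _ hs'
  rcases hgw with e | e
  · rw [show s * b * s⁻¹ = g * (g⁻¹ * s * g * w * (g⁻¹ * s * g)⁻¹) * g⁻¹ by rw [← e]; group]
    rcases h1 with e' | e' <;> rw [e']
    · exact Or.inl e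
    · exact Or.inr (by rw [show g * (w * z) * g⁻¹ = g * w * g⁻¹ * (g * z * g⁻¹) by group, e, hz])
  · rw [show s * b * s⁻¹ = g * (g⁻¹ * s * g * w * (g⁻¹ * s * g)⁻¹) * g⁻¹ * (s * z * s⁻¹) by
      rw [show g * (g⁻¹ * s * g * w * (g⁻¹ * s * g)⁻¹) * g⁻¹ = s * (g * w * g⁻¹) * s⁻¹ by group, e]
      rw [show s * (b * z) * s⁻¹ * (s * z * s⁻¹) = s * b * (z * z) * s⁻¹ by group, h.zz, mul_one],
      hz]
    rcases h1 with e' | e' <;> rw [e']
    · exact Or.inl (by rw [e, mul_assoc, h.zz, mul_one])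
    · exact Or.inr (by rw [show g * (w * z) * g⁻¹ = g * w * g⁻¹ * (g * z * g⁻¹) by group, e, hz,
        mul_assoc b z z, h.zz, mul_one])

/-- A Sylow subgroup contains more than one such four group. -/
theorem pairs_ne {S : Sylow 2 G} {a : G} (ha : orderOf a = 2) (haz : a ≠ z)
    (haS : a ∈ (S : Subgroup G))
    (hall : ∀ b ∈ (S : Subgroup G), orderOf b = 2 → b ≠ z → b = a ∨ b = a * z) : False := by
  haveI : Fact (Nat.Prime 2) := ⟨Nat.prime_two⟩
  have hzpc : zpowers z ≤ center G :=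
    (zpowers_le).2 (mem_center_iff.2 fun g => (h.z_comm g).eq)
  haveI hZn : (zpowers z).Normal := ⟨fun x hx g => by
    rw [mem_center_iff.1 (hzpc hx) g, mul_inv_cancel_right]; exact hx⟩
  set π := QuotientGroup.mk' (zpowers z) with hπ
  have hker : ∀ x, π x = 1 ↔ x = 1 ∨ x = z := fun x => by
    rw [hπ, QuotientGroup.mk'_apply, QuotientGroup.eq_one_iff]
    refine ⟨mem_two h.zz, ?_⟩
    rintro (rfl | rfl)
    · exact one_mem _
    · exact mem_zpowers x
  have hao : orderOf (π a) = 2 := invol_of (by rw [← map_mul, invol_mul_self ha, map_one])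
    fun e => by
      rcases (hker a).1 e with e' | e'
      · exact invol_ne_one ha e'
      · exact haz e'
  have hpair : ∀ x : G, π x = π a → x = a ∨ x = a * z := fun x e => by
    have h1 : π (a⁻¹ * x) = 1 := by rw [map_mul, map_inv, e, inv_mul_cancel]
    rcases (hker _).1 h1 with e' | e'
    · exact Or.inl (inv_mul_eq_one.1 e').symm
    · exact Or.inr (inv_mul_eq_iff_eq_mul.1 e')
  -- isolation
  have hiso : Cfsg.IsIsolatedInvolution (π a) := by
    refine ⟨hao, fun q hq => ?_⟩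
    obtain ⟨c, rfl⟩ := QuotientGroup.mk'_surjective (zpowers z) q
    set a' := c * a * c⁻¹ with ha'
    have ha'o : orderOf a' = 2 := by rw [ha', II.orderOf_conj_eq]; exact ha
    have ha'z : a' ≠ z := fun e => haz (by
      have : a = c⁻¹ * z * c := by rw [← e, ha']; group
      rw [this, mul_assoc, ← (h.z_comm c).eq, inv_mul_cancel_left])
    have hπa' : π a' = π c * π a * (π c)⁻¹ := by rw [ha', map_mul, map_mul, map_inv]
    rw [← hπa'] at hq ⊢
    have hc1 : a' * a * a'⁻¹ = a ∨ a' * a * a'⁻¹ = a * z := hpair _ (by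
      rw [map_mul, map_mul, map_inv, ← hq.eq, mul_inv_cancel_right])
    have hP : a' ∈ normalizer ((zpowers z ⊔ zpowers a : Subgroup G) : Set G) := by
      have hle : ∀ x ∈ zpowers z ⊔ zpowers a, a' * x * a'⁻¹ ∈ zpowers z ⊔ zpowers a := by
        intro x hx
        have : zpowers z ⊔ zpowers a ≤ (zpowers z ⊔ zpowers a).comap (MulAut.conj a').toMonoidHom := by
          rw [sup_le_iff, zpowers_le, zpowers_le, mem_comap, mem_comap]
          refine ⟨?_, ?_⟩
          · show a' * z * a'⁻¹ ∈ _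
            rw [(h.z_comm a').eq, mul_inv_cancel_right]
            exact mem_sup_left (mem_zpowers z)
          · show a' * a * a'⁻¹ ∈ _
            rcases hc1 with e | e <;> rw [e]
            · exact mem_sup_right (mem_zpowers a)
            · exact mul_mem (mem_sup_right (mem_zpowers a)) (mem_sup_left (mem_zpowers z))
        exact this hx
      refine mem_normalizer_iff.2 fun x => ⟨hle x, fun hx => ?_⟩
      have := hle _ hx
      rwa [show a' * (a' * x * a'⁻¹) * a'⁻¹ = a' * a' * x * (a' * a')⁻¹ by group,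
        invol_mul_self ha'o, inv_one, one_mul, mul_one] at this
    have h2 : IsPGroup 2 (zpowers z ⊔ zpowers a : Subgroup G) :=
      (isPGroup_zpowers_invol h.zo).to_sup_of_normal_left' (isPGroup_zpowers_invol ha)
        ((zpowers_le).2 (by rw [normalizer_eq_top_iff.2 hZn]; exact mem_top a))
    have hle := le_of_uniq (h.uniq_of_invol ha haz) haS
      ((isPGroup_zpowers_invol ha'o).to_sup_of_normal_right' h2 ((zpowers_le).2 hP))
      (mem_sup_right (mem_sup_right (mem_zpowers a))) (mem_sup_left (mem_zpowers a'))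
    rcases hall a' hle ha'o ha'z with e | e
    · rw [e]
    · rw [e, map_mul, (hker z).2 (Or.inr rfl), mul_one]
  have hcore : Cfsg.oddCore (G ⧸ zpowers z) = ⊥ := by
    set O := Cfsg.oddCore (G ⧸ zpowers z) with hO
    haveI : O.Normal := by rw [hO]; unfold Cfsg.oddCore; infer_instance
    set N := O.comap π with hN
    have hNn : N.Normal := Subgroup.Normal.comap inferInstance π
    have hzN : z ∈ N := by
      rw [hN, mem_comap, (hker z).2 (Or.inr rfl)]; exact one_mem O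
    have hm : ∀ x ∈ N, x ^ Nat.card O = 1 ∨ x ^ Nat.card O = z := fun x hx => by
      refine (hker _).1 ?_
      have h1 := congrArg Subtype.val (pow_card_eq_one' (x := (⟨π x, hx⟩ : O)))
      rw [SubmonoidClass.coe_pow, OneMemClass.coe_one] at h1
      rw [map_pow]
      exact h1
    have hOodd : Odd (Nat.card O) := Base.odd_card_oddCore _
    have hord : ∀ x : G, x ^ Nat.card O = 1 → Odd (orderOf x) := fun x hx =>
      hOodd.of_dvd_nat (orderOf_dvd_of_pow_eq_one hx)
    have hzm : z ^ Nat.card O = z := by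
      obtain ⟨r, hr⟩ := hOodd
      rw [hr, pow_succ, pow_mul, sq, h.zz, one_pow, one_mul]
    haveI hzN' : ((zpowers z).subgroupOf N).Normal := inferInstance
    have hcard : Nat.card ((zpowers z).subgroupOf N) = 2 := by
      rw [Nat.card_congr (Subgroup.subgroupOfEquivOfLe ((zpowers_le).2 hzN)).toEquiv,
        Nat.card_zpowers, h.zo]
    have hidx : ((zpowers z).subgroupOf N).index = Nat.card O := by
      have hk : (π.comp N.subtype).ker = (zpowers z).subgroupOf N := by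
        rw [← MonoidHom.comap_ker, hπ, QuotientGroup.ker_mk']; rfl
      rw [← hk, Subgroup.index_ker, MonoidHom.range_comp, Subgroup.range_subtype, hN,
        Subgroup.map_comap_eq_self_of_surjective (QuotientGroup.mk'_surjective _)]
    obtain ⟨K, hK⟩ := Subgroup.exists_right_complement'_of_coprime (N := (zpowers z).subgroupOf N)
      (by rw [hcard, hidx]; exact hOodd.coprime_two_left)
    have hKcard : Nat.card K = Nat.card O := by rw [← hidx]; exact hK.symm.index_eq_card.symm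
    have hKmem : ∀ x : N, Odd (orderOf (x : G)) ↔ x ∈ K := by
      intro x
      constructor
      · intro hx
        obtain ⟨⟨⟨e, he⟩, ⟨k, hk⟩⟩, hek⟩ := hK.2 x
        have hek' : (e : G) * (k : G) = (x : G) := congrArg Subtype.val hek
        rcases mem_two h.zz (mem_subgroupOf.1 he) with e1 | e1
        · rw [e1, one_mul] at hek'
          exact (Subtype.ext hek' : k = x) ▸ hk
        · exfalso
          have hk1 : (k : G) ^ Nat.card O = 1 := by
            have h1 := congrArg (fun y : K => ((y : N) : G)) (pow_card_eq_one' (x := (⟨k, hk⟩ : K)))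
            simpa [hKcard] using h1
          have h2 : (x : G) ^ Nat.card O = z := by
            rw [← hek', e1, ((h.z_comm (k : G)).symm).mul_pow, hzm, hk1, mul_one]
          have h3 : orderOf (x : G) ∣ 2 * Nat.card O := orderOf_dvd_of_pow_eq_one (by
            rw [mul_comm, pow_mul, h2, sq, h.zz])
          have h4 : orderOf (x : G) ∣ Nat.card O :=
            (Nat.Coprime.dvd_of_dvd_mul_left hx.coprime_two_right h3)
          rw [orderOf_dvd_iff_pow_eq_one.1 h4] at h2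
          exact invol_ne_one h.zo h2.symm
      · intro hx
        refine hord _ ?_
        have h1 := congrArg (fun y : K => ((y : N) : G)) (pow_card_eq_one' (x := (⟨x, hx⟩ : K)))
        simpa [hKcard] using h1
    have hKn : (K.map N.subtype).Normal := ⟨fun y hy g => by
      obtain ⟨x, hx, rfl⟩ := hy
      refine ⟨⟨g * x * g⁻¹, hNn.conj_mem _ x.2 g⟩, (hKmem _).1 ?_, rfl⟩
      rw [II.orderOf_conj_eq]; exact (hKmem x).2 hx⟩
    have hbot : K.map N.subtype = ⊥ := le_bot_iff.1 (h.core ▸ Base.le_oddCore (by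
      rw [Subgroup.card_map_of_injective N.subtype_injective, hKcard]; exact hOodd))
    have hK1 : Nat.card O = 1 := by
      have e : Nat.card (K.map N.subtype) = Nat.card K :=
        Subgroup.card_map_of_injective N.subtype_injective
      rw [← hKcard, ← e, hbot, Subgroup.card_bot]
    exact Subgroup.card_eq_one.1 hK1
  have hcen := Involutions.ZStar.mem_center_of_oddCore_eq_bot hiso hcore
  obtain ⟨T, hTS⟩ := h.exists_ne S
  obtain ⟨g, hg⟩ := MulAction.exists_smul_eq G S T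
  refine hTS (hg.symm.trans (Sylow.smul_eq_iff_mem_normalizer.2
    (mem_normalizer_of_uniq (h.uniq_of_invol ha haz) haS ?_)))
  rcases hpair (g * a * g⁻¹) (by
    rw [map_mul, map_mul, map_inv, mem_center_iff.1 hcen (π g), mul_inv_cancel_right]) with e | e
  <;> rw [e]
  · exact haS
  · exact mul_mem haS (h.z_mem S)

end Hyp

end CfsgLib.CycInt
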